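import Groth.Agent.RGammaI.Torsion
import Groth.Agent.KInj.Existence
import Groth.Agent.KInj.Ops
import Groth.Agent.KInj.Adjunction

/-!
`RΓ_I` through K-injective complexes and, over Noetherian rings, complexes of injectives.
-/

set_option autoImplicit false
set_option linter.style.haveILetI false
set_option backward.isDefEq.respectTransparency false
set_option backward.isDefEq.respectTransparency.types false
universe u

namespace Groth.Agent.RGammaI

open CategoryTheory Limits

attribute [local instance] HasDerivedCategory.standard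

variable {A : Type u} [CommRing A] (I : Ideal A)

/-- the image of a complex in `D(A)`, through the homotopy category -/
noncomputable abbrev qh (J : DRing.Cx A) : Dual.D A :=
  DerivedCategory.Qh.obj ((HomotopyCategory.quotient (ModuleCat.{u} A) (ComplexShape.up ℤ)).obj J)

/-- maps of complexes in `D(A)` -/
noncomputable abbrev qhm {J J' : DRing.Cx A} (f : J ⟶ J') : qh J ⟶ qh J' :=
  DerivedCategory.Qh.map ((HomotopyCategory.quotient (ModuleCat.{u} A) (ComplexShape.up ℤ)).map f)

lemma isIso_qhm {J J' : DRing.Cx A} (f : J ⟶ J') [QuasiIso f] : IsIso (qhm f) :=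
  (NatIso.isIso_map_iff (DerivedCategory.quotientCompQhIso (ModuleCat.{u} A)) f).2 inferInstance

theorem exists_kinj (K : DRing.Cx A) :
    ∃ (J : DRing.Cx A) (u : K ⟶ J), J.IsKInjective ∧ QuasiIso u ∧ TI J := by
  obtain ⟨J, u, h1, h2, -, h3⟩ := KInj.exists_kInjective K
  exact ⟨J, u, h1, h2, h3⟩

theorem exists_rep (X : Dual.D A) : ∃ J : DRing.Cx A, J.IsKInjective ∧ TI J ∧ Nonempty (qh J ≅ X) := by
  obtain ⟨J, u, h1, h2, h3⟩ := exists_kinj (DerivedCategory.Q.objPreimage X)
  exact ⟨J, h1, h3, ⟨(DerivedCategory.quotientCompQhIso (ModuleCat.{u} A)).app J ≪≫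
    (asIso (DerivedCategory.Q.map u)).symm ≪≫ DerivedCategory.Q.objObjPreimageIso X⟩⟩

lemma isDeforming : KInj.IsDeforming (DerivedCategory.Qh : _ ⥤ Dual.D A) (DRing.gammaIKh I)
    (KInj.kinjProp (ModuleCat.{u} A)) :=
  KInj.isDeforming_Qh (fun K => by obtain ⟨J, u, h1, h2, -⟩ := exists_kinj K; exact ⟨J, u, h1, h2⟩) _

theorem hasRgammaI : DRing.HasRgammaI I :=
  (isDeforming I).hasRightDerivedFunctor _

/-- `Qh (Γ_I J)` -/
noncomputable abbrev qg (J : DRing.Cx A) : Dual.D A :=
  (DRing.gammaIKh I).obj ((HomotopyCategory.quotient (ModuleCat.{u} A) (ComplexShape.up ℤ)).obj J)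

lemma gammaIτ_app (J : DRing.Cx A) :
    (DRing.gammaIτ I).app ((HomotopyCategory.quotient (ModuleCat.{u} A) (ComplexShape.up ℤ)).obj J) =
      qhm (gι I J) := by
  refine ((Category.id_comp _).trans ?_)
  rw [show gι I J = (NatTrans.mapHomologicalComplex (DRing.gammaIι I) (ComplexShape.up ℤ)).app J ≫
    (Functor.mapHomologicalComplexIdIso (ModuleCat.{u} A) (ComplexShape.up ℤ)).hom.app J from
      HomologicalComplex.hom_ext _ _ fun _ => rfl]
  simp only [qhm, Functor.map_comp]
  refine (congrArg (· ≫ _) ?_).trans (Category.id_comp _)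
  exact DerivedCategory.Qh.map_id _

variable [DRing.HasRgammaI I]

/-- the unit of `RΓ_I` -/
noncomputable abbrev gα (J : DRing.Cx A) : qg I J ⟶ (DRing.RgammaI I).obj (qh J) :=
  ((DRing.gammaIKh I).totalRightDerivedUnit DerivedCategory.Qh
      (HomotopyCategory.quasiIso (ModuleCat.{u} A) (ComplexShape.up ℤ))).app
    ((HomotopyCategory.quotient (ModuleCat.{u} A) (ComplexShape.up ℤ)).obj J)

lemma gα_natural {J J' : DRing.Cx A} (f : J ⟶ J') :
    qhm (gm I f) ≫ gα I J' = gα I J ≫ (DRing.RgammaI I).map (qhm f) :=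
  ((DRing.gammaIKh I).totalRightDerivedUnit DerivedCategory.Qh
      (HomotopyCategory.quasiIso (ModuleCat.{u} A) (ComplexShape.up ℤ))).naturality
    ((HomotopyCategory.quotient (ModuleCat.{u} A) (ComplexShape.up ℤ)).map f)

lemma gα_ε (J : DRing.Cx A) :
    gα I J ≫ (DRing.RgammaIε I).app (qh J) = qhm (gι I J) := by
  rw [DRing.RgammaIε, gα, Functor.rightDerived_fac_app]
  simp only [NatTrans.comp_app, gammaIτ_app]
  exact Category.comp_id _

theorem isIso_gα_kinj (J : DRing.Cx A) [J.IsKInjective] : IsIso (gα I J) :=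
  (isDeforming I).isIso_app (HomotopyCategory.quasiIso (ModuleCat.{u} A) (ComplexShape.up ℤ)) _ _
    (I := (HomotopyCategory.quotient _ _).obj J)
    (show J.IsKInjective from inferInstance)

variable [IsNoetherianRing A]

/-- `RΓ_I` is computed by complexes of injectives -/
theorem isIso_gα {J : DRing.Cx A} (hJ : TI J) : IsIso (gα I J) := by
  obtain ⟨J', u, h1, h2, h3⟩ := exists_kinj J
  haveI := isIso_gα_kinj I J'
  haveI := isIso_qhm u
  haveI := quasiIso_gm I hJ h3 u
  haveI := isIso_qhm (gm I u)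
  have : IsIso (gα I J ≫ (DRing.RgammaI I).map (qhm u)) := by
    rw [← gα_natural]; infer_instance
  exact IsIso.of_isIso_comp_right (gα I J) ((DRing.RgammaI I).map (qhm u))

/-- `RΓ_I (RΓ_I X) → RΓ_I X` is an isomorphism -/
theorem isIso_map_ε (X : Dual.D A) :
    IsIso ((DRing.RgammaI I).map ((DRing.RgammaIε I).app X)) := by
  obtain ⟨J, h1, h2, ⟨e⟩⟩ := exists_rep X
  haveI := isIso_gα I h2
  haveI := isIso_gα I (h2.gc I)
  haveI : QuasiIso (gm I (gι I J)) := by
    haveI : ∀ i, IsIso ((gm I (gι I J)).f i) := fun i => by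
      rw [ConcreteCategory.isIso_iff_bijective]
      refine ⟨fun x y h => Subtype.ext (Subtype.ext ?_), fun z => ?_⟩
      · exact congrArg Subtype.val h
      · obtain ⟨n, hn⟩ := z.2
        exact ⟨⟨z, n, fun a ha => Subtype.ext (hn a ha)⟩, rfl⟩
    haveI : IsIso (gm I (gι I J)) := HomologicalComplex.Hom.isIso_of_components _
    infer_instance
  haveI := isIso_qhm (gm I (gι I J))
  have h : IsIso ((DRing.RgammaI I).map ((DRing.RgammaIε I).app (qh J))) := by
    have e' : gα I (gc I J) ≫ (DRing.RgammaI I).map (gα I J) ≫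
        (DRing.RgammaI I).map ((DRing.RgammaIε I).app (qh J)) = qhm (gm I (gι I J)) ≫ gα I J := by
      rw [← Functor.map_comp, gα_ε, gα_natural]
    have : IsIso (gα I (gc I J) ≫ (DRing.RgammaI I).map (gα I J) ≫
        (DRing.RgammaI I).map ((DRing.RgammaIε I).app (qh J))) := by
      rw [e']; infer_instance
    haveI := IsIso.of_isIso_comp_left (gα I (gc I J)) ((DRing.RgammaI I).map (gα I J) ≫
        (DRing.RgammaI I).map ((DRing.RgammaIε I).app (qh J)))
    exact IsIso.of_isIso_comp_left ((DRing.RgammaI I).map (gα I J)) _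
  exact (NatTrans.isIso_app_iff_of_iso (Functor.whiskerRight (DRing.RgammaIε I) (DRing.RgammaI I)) e).1 h

/-- `RΓ_I X → X` is an isomorphism for torsion cohomology -/
theorem isIso_ε {X : Dual.D A} (hX : ∀ i, LocCoh.IsPowerTorsion I (Dual.HD A X i)) :
    IsIso ((DRing.RgammaIε I).app X) := by
  obtain ⟨J, h1, h2, ⟨e⟩⟩ := exists_rep X
  haveI := isIso_gα I h2
  haveI : QuasiIso (gι I J) := quasiIso_gι h2 fun i m => by
    let f := ((DerivedCategory.homologyFunctor (ModuleCat.{u} A) i).mapIso
      (((DerivedCategory.quotientCompQhIso (ModuleCat.{u} A)).app J).symm ≪≫ e)).toLinearEquiv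
    let g := ((DerivedCategory.homologyFunctorFactors (ModuleCat.{u} A) i).app J).symm.toLinearEquiv
    obtain ⟨n, hn⟩ := hX i (f (g m))
    exact ⟨n, fun a ha => g.injective (f.injective (by simp only [map_smul, map_zero]; exact hn a ha))⟩
  haveI := isIso_qhm (gι I J)
  have : IsIso (gα I J ≫ (DRing.RgammaIε I).app (qh J)) := by rw [gα_ε]; infer_instance
  have := IsIso.of_isIso_comp_left (gα I J) ((DRing.RgammaIε I).app (qh J))
  exact (NatTrans.isIso_app_iff_of_iso (DRing.RgammaIε I) e).1 this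

omit [IsNoetherianRing A] in
/-- the cohomology of `RΓ_I X` is torsion -/
theorem isPowerTorsion_HD (X : Dual.D A) (i : ℤ) :
    LocCoh.IsPowerTorsion I (Dual.HD A ((DRing.RgammaI I).obj X) i) := by
  obtain ⟨J, h1, -, ⟨e⟩⟩ := exists_rep X
  haveI := isIso_gα_kinj I J
  intro m
  let f := ((DerivedCategory.homologyFunctor (ModuleCat.{u} A) i).mapIso
    (((DerivedCategory.quotientCompQhIso (ModuleCat.{u} A)).app (gc I J)).symm ≪≫ asIso (gα I J) ≪≫
      (DRing.RgammaI I).mapIso e)).symm.toLinearEquiv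
  let g := ((DerivedCategory.homologyFunctorFactors (ModuleCat.{u} A) i).app (gc I J)).toLinearEquiv
  obtain ⟨n, hn⟩ := isPowerTorsion_homology_gc I J i (g (f m))
  exact ⟨n, fun a ha => f.injective (g.injective (by simp only [map_smul, map_zero]; exact hn a ha))⟩

end Groth.Agent.RGammaI

namespace Groth.Agent.RGammaI

open CategoryTheory

attribute [local instance] HasDerivedCategory.standard

variable {A : Type u} [CommRing A] [IsNoetherianRing A] (I : Ideal A) [DRing.HasRgammaI I]

/-- the two maps `RΓ_I RΓ_I X → RΓ_I X` agree -/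
theorem map_ε_eq (X : Dual.D A) :
    (DRing.RgammaI I).map ((DRing.RgammaIε I).app X) =
      (DRing.RgammaIε I).app ((DRing.RgammaI I).obj X) := by
  obtain ⟨J, h1, h2, ⟨e⟩⟩ := exists_rep X
  haveI := isIso_gα I h2
  haveI := isIso_gα I (h2.gc I)
  suffices h : (DRing.RgammaI I).map ((DRing.RgammaIε I).app (qh J)) =
      (DRing.RgammaIε I).app ((DRing.RgammaI I).obj (qh J)) by
    have n1 := congrArg (DRing.RgammaI I).map ((DRing.RgammaIε I).naturality e.hom)
    have n2 := (DRing.RgammaIε I).naturality ((DRing.RgammaI I).map e.hom)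
    simp only [Functor.id_map] at n1 n2
    rw [Functor.map_comp, Functor.map_comp, h] at n1
    rw [← cancel_epi ((DRing.RgammaI I).map ((DRing.RgammaI I).map e.hom))]
    exact n1.trans n2.symm
  have hαι : gm I (gι I J) = gι I (gc I J) := by
    ext i x
    rfl
  have n := (DRing.RgammaIε I).naturality (gα I J)
  simp only [Functor.id_map] at n
  rw [← cancel_epi (gα I (gc I J) ≫ (DRing.RgammaI I).map (gα I J)), Category.assoc, Category.assoc,
    n, ← Functor.map_comp, gα_ε, ← gα_natural, hαι, ← gα_ε, Category.assoc]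
  rfl

end Groth.Agent.RGammaI
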