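import Groth.Agent.RGammaI.Derived
import Groth.Agent.HDU.Basic
import Groth.Prelude.Def_DualLC

/-!
`H^q(RΓ_I K)` as a direct limit of morphism modules out of `A/I^n`.
-/

set_option autoImplicit false
set_option linter.style.haveILetI false
set_option backward.isDefEq.respectTransparency false
set_option backward.isDefEq.respectTransparency.types false
universe u

namespace Groth.Agent.RGammaI

open CategoryTheory Limits Opposite HomologicalComplex

attribute [local instance] HasDerivedCategory.standard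

variable {A : Type u} [CommRing A] (I : Ideal A) (J : DRing.Cx A) (q : ℤ)

/-- the diagram `n ↦ Hom(A/I^n, J[q])` -/
noncomputable abbrev hdiF : (ℕᵒᵖ)ᵒᵖ ⥤ ModuleCat.{u + 1} A :=
  (localCohomology.ringModIdeals (localCohomology.idealPowersDiagram I) ⋙
    DerivedCategory.singleFunctor (ModuleCat.{u} A) 0).op ⋙
      (linearYoneda A (Dual.D A)).obj ((DerivedCategory.Q.obj J)⟦q⟧)

/-- the index of `n` -/
abbrev ix (n : ℕ) : (ℕᵒᵖ)ᵒᵖ := op (op n)

/-- transition morphism -/
def tr {n m : ℕ} (h : n ≤ m) : ix n ⟶ ix m := (homOfLE h).op.op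

/-- cycles of degree `q` killed by `I^n`, as a morphism out of `A/I^n` -/
noncomputable def qHom (n : ℕ) (z : J.X q) (hz : ∀ a ∈ I ^ n, a • z = 0) :
    ModuleCat.of A (A ⧸ I ^ n) ⟶ J.X q :=
  ModuleCat.ofHom ((I ^ n).liftQ (LinearMap.toSpanSingleton A (J.X q) z) fun a ha => hz a ha)

lemma qHom_mk (n : ℕ) (z : J.X q) (hz : ∀ a ∈ I ^ n, a • z = 0) (r : A) :
    qHom I J q n z hz (Submodule.Quotient.mk r) = r • z := rfl

/-- the class of a closed morphism -/
noncomputable def cd {P : ModuleCat.{u} A} (f : P ⟶ J.X q) (hf : f ≫ J.d q (q + 1) = 0) :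
    (DerivedCategory.singleFunctor (ModuleCat.{u} A) 0).obj P ⟶ (DerivedCategory.Q.obj J)⟦q⟧ :=
  (DerivedCategory.singleFunctorIsoCompQ (ModuleCat.{u} A) 0).hom.app P ≫ HDU.cl q f hf

lemma cd_congr {P : ModuleCat.{u} A} {f g : P ⟶ J.X q} (hf : f ≫ J.d q (q + 1) = 0)
    (hg : g ≫ J.d q (q + 1) = 0) (h : f = g) : cd J q f hf = cd J q g hg := by subst h; rfl

lemma cd_precomp {P P' : ModuleCat.{u} A} (g : P' ⟶ P) (f : P ⟶ J.X q) (hf : f ≫ J.d q (q + 1) = 0)
    (hgf : (g ≫ f) ≫ J.d q (q + 1) = 0) :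
    cd J q (g ≫ f) hgf = (DerivedCategory.singleFunctor (ModuleCat.{u} A) 0).map g ≫ cd J q f hf := by
  rw [cd, cd, HDU.cl_precomp g q f hf hgf]
  exact ((DerivedCategory.singleFunctorIsoCompQ (ModuleCat.{u} A) 0).hom.naturality_assoc g _).symm

lemma cd_smul {P : ModuleCat.{u} A} (a : A) (f : P ⟶ J.X q) (hf : f ≫ J.d q (q + 1) = 0)
    (haf : (a • f) ≫ J.d q (q + 1) = 0) : cd J q (a • f) haf = a • cd J q f hf := by
  have h : (a • f) = (a • 𝟙 P) ≫ f := by rw [Linear.smul_comp, Category.id_comp]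
  rw [cd_congr J q haf (by rw [← h]; exact haf) h, cd_precomp J q _ f hf, Functor.map_smul,
    CategoryTheory.Functor.map_id, Linear.smul_comp, Category.id_comp]

lemma cd_add {P : ModuleCat.{u} A} (f g : P ⟶ J.X q) (hf : f ≫ J.d q (q + 1) = 0)
    (hg : g ≫ J.d q (q + 1) = 0) (hfg : (f + g) ≫ J.d q (q + 1) = 0) :
    cd J q (f + g) hfg = cd J q f hf + cd J q g hg := by
  rw [cd, cd, cd, HDU.cl_add q f g hf hg hfg, Preadditive.comp_add]

lemma qHom_closed (n : ℕ) (z : J.X q) (hz : ∀ a ∈ I ^ n, a • z = 0) (hd : J.d q (q + 1) z = 0) :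
    qHom I J q n z hz ≫ J.d q (q + 1) = 0 := by
  apply ModuleCat.hom_ext
  refine Submodule.linearMap_qext _ (LinearMap.ext fun r => ?_)
  change J.d q (q + 1) (r • z) = 0
  rw [map_smul, hd, smul_zero]

/-- the class of a cycle killed by `I^n` in the direct limit -/
noncomputable def cls (n : ℕ) (z : J.X q) (hz : ∀ a ∈ I ^ n, a • z = 0) (hd : J.d q (q + 1) z = 0) :
    (colimit (hdiF I J q) : ModuleCat.{u + 1} A) :=
  colimit.ι (hdiF I J q) (ix n) (cd J q (qHom I J q n z hz) (qHom_closed I J q n z hz hd))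

lemma cls_le {n m : ℕ} (h : n ≤ m) (z : J.X q) (hz : ∀ a ∈ I ^ n, a • z = 0)
    (hz' : ∀ a ∈ I ^ m, a • z = 0) (hd : J.d q (q + 1) z = 0) :
    cls I J q m z hz' hd = cls I J q n z hz hd := by
  have e := colimit.w (hdiF I J q) (tr h)
  refine Eq.trans ?_ (congr($e (cd J q (qHom I J q n z hz) (qHom_closed I J q n z hz hd))))
  refine congrArg (fun v => colimit.ι (hdiF I J q) (ix m) v) ?_
  refine Eq.trans ?_ (cd_precomp J q ((localCohomology.ringModIdeals (localCohomology.idealPowersDiagram I)).map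
    (tr h).unop) (qHom I J q n z hz) (qHom_closed I J q n z hz hd) (by
      rw [Category.assoc, qHom_closed I J q n z hz hd, comp_zero]))
  refine cd_congr J q _ _ ?_
  apply ModuleCat.hom_ext
  exact Submodule.linearMap_qext _ (LinearMap.ext fun r => rfl)

variable {I J q}

/-- the cycle underlying a cycle of `Γ_I J` -/
noncomputable abbrev zval (x : (gc I J).cycles q) : J.X q := ((gc I J).iCycles q x).1

lemma zval_closed (x : (gc I J).cycles q) : J.d q (q + 1) (zval x) = 0 :=
  congrArg Subtype.val (FlatCx.d_iCycles (gc I J) (k := q + 1) x)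

/-- the order of torsion -/
noncomputable def ord (x : (gc I J).cycles q) : ℕ := ((gc I J).iCycles q x).2.choose

lemma ord_spec (x : (gc I J).cycles q) : ∀ a ∈ I ^ ord x, a • zval x = 0 :=
  ((gc I J).iCycles q x).2.choose_spec

variable (I J q) in
/-- the class of a cycle of `Γ_I J` -/
noncomputable def θ₀ (x : (gc I J).cycles q) : (colimit (hdiF I J q) : ModuleCat.{u + 1} A) :=
  cls I J q (ord x) (zval x) (ord_spec x) (zval_closed x)

lemma θ₀_eq (x : (gc I J).cycles q) (n : ℕ) (hn : ∀ a ∈ I ^ n, a • zval x = 0) :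
    θ₀ I J q x = cls I J q n (zval x) hn (zval_closed x) := by
  have h := fun a ha => hn a (Ideal.pow_le_pow_right (le_max_right (ord x) n) ha)
  rw [θ₀, ← cls_le I J q (le_max_left (ord x) n) _ _ h, cls_le I J q (le_max_right (ord x) n) _ hn h]

variable (I J q) in
/-- the class map, linear -/
noncomputable def θ : (gc I J).cycles q →ₗ[A] (colimit (hdiF I J q) : ModuleCat.{u + 1} A) where
  toFun := θ₀ I J q
  map_add' x y := by
    have hx := fun a ha => ord_spec x a (Ideal.pow_le_pow_right (le_max_left (ord x) (ord y)) ha)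
    have hy := fun a ha => ord_spec y a (Ideal.pow_le_pow_right (le_max_right (ord x) (ord y)) ha)
    have hv : zval (x + y) = zval x + zval y := congrArg Subtype.val (map_add ((gc I J).iCycles q).hom x y)
    rw [θ₀_eq x _ hx, θ₀_eq y _ hy,
      θ₀_eq (x + y) (max (ord x) (ord y)) (fun a ha => by rw [hv, smul_add, hx a ha, hy a ha, add_zero]),
      cls, cls, cls, ← map_add]
    refine congrArg (fun v => colimit.ι (hdiF I J q) _ v) ?_
    refine (cd_congr J q _ (by
      rw [Preadditive.add_comp, qHom_closed I J q _ _ hx (zval_closed x),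
        qHom_closed I J q _ _ hy (zval_closed y), add_zero]) ?_).trans (cd_add J q _ _ _ _ _)
    apply ModuleCat.hom_ext
    refine Submodule.linearMap_qext _ (LinearMap.ext fun r => ?_)
    change r • zval (x + y) = r • zval x + r • zval y
    rw [hv, smul_add]
  map_smul' c x := by
    have hv : zval (c • x) = c • zval x := congrArg Subtype.val (map_smul ((gc I J).iCycles q).hom c x)
    rw [RingHom.id_apply, θ₀_eq (c • x) (ord x) (fun a ha => by rw [hv, smul_comm, ord_spec x a ha, smul_zero]),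
      θ₀, cls, cls, ← map_smul]
    refine congrArg (fun v => colimit.ι (hdiF I J q) _ v) ?_
    refine (cd_congr J q _ (by
      rw [Linear.smul_comp, qHom_closed I J q _ _ (ord_spec x) (zval_closed x), smul_zero]) ?_).trans
      (cd_smul J q c _ _ _)
    apply ModuleCat.hom_ext
    refine Submodule.linearMap_qext _ (LinearMap.ext fun r => ?_)
    change r • zval (c • x) = c • r • zval x
    rw [hv, smul_comm]

instance : PreservesColimit (hdiF I J q) (CategoryTheory.forget (ModuleCat.{u + 1} A)) :=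
  haveI : PreservesFilteredColimitsOfSize.{0, 0} (CategoryTheory.forget AddCommGrpCat.{u + 1}) :=
    preservesFilteredColimitsOfSize_shrink.{0, u + 1, 0, u + 1} _
  comp_preservesColimit (forget₂ (ModuleCat.{u + 1} A) AddCommGrpCat.{u + 1}) (CategoryTheory.forget AddCommGrpCat.{u + 1})

variable [J.IsKInjective]

lemma cd_surjective {P : ModuleCat.{u} A}
    (v : (DerivedCategory.singleFunctor (ModuleCat.{u} A) 0).obj P ⟶ (DerivedCategory.Q.obj J)⟦q⟧) :
    ∃ (f : P ⟶ J.X q) (hf : f ≫ J.d q (q + 1) = 0), cd J q f hf = v := by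
  obtain ⟨f, hf, h⟩ := HDU.cl_surjective q
    ((DerivedCategory.singleFunctorIsoCompQ (ModuleCat.{u} A) 0).inv.app P ≫ v)
  refine ⟨f, hf, ?_⟩
  rw [cd, h]
  exact Iso.hom_inv_id_app_assoc _ _ _

lemma cd_eq_zero_iff {P : ModuleCat.{u} A} (f : P ⟶ J.X q) (hf : f ≫ J.d q (q + 1) = 0) :
    cd J q f hf = 0 ↔ ∃ g : P ⟶ J.X (q - 1), g ≫ J.d (q - 1) q = f := by
  rw [← HDU.cl_eq_zero_iff q f hf, cd]
  exact ⟨fun h => (cancel_epi ((DerivedCategory.singleFunctorIsoCompQ (ModuleCat.{u} A) 0).hom.app P)).1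
    (h.trans comp_zero.symm), fun h => by rw [h, comp_zero]⟩

theorem θ_surjective : Function.Surjective (θ I J q) := by
  intro v
  obtain ⟨⟨⟨n⟩⟩, w, rfl⟩ := Concrete.colimit_exists_rep (hdiF I J q) v
  obtain ⟨f, hf, rfl⟩ := cd_surjective w
  let z : J.X q := f (Submodule.Quotient.mk (1 : A))
  have hz : ∀ a ∈ I ^ n, a • z = 0 := fun a ha => by
    refine (map_smul f.hom a _).symm.trans ?_
    have : a • (Submodule.Quotient.mk (1 : A) : A ⧸ I ^ n) = 0 := by
      rw [← Submodule.Quotient.mk_smul, Submodule.Quotient.mk_eq_zero]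
      simpa using ha
    exact (congrArg f.hom this).trans (map_zero _)
  have hd : J.d q (q + 1) z = 0 := congr($hf (Submodule.Quotient.mk (1 : A)))
  obtain ⟨x, hx⟩ := FlatCx.exists_cycles (gc I J) (j := q) (k := q + 1) (by simp)
    ⟨z, n, hz⟩ (Subtype.ext hd)
  have hv : zval x = z := congrArg Subtype.val hx
  refine ⟨x, (θ₀_eq x n (by rw [hv]; exact hz)).trans ?_⟩
  refine congrArg (fun v => colimit.ι (hdiF I J q) (ix n) v) (cd_congr J q _ hf ?_)
  apply ModuleCat.hom_ext
  refine Submodule.linearMap_qext _ (LinearMap.ext_ring ?_)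
  change (1 : A) • zval x = z
  rw [hv, one_smul]

theorem θ_eq_zero_iff (x : (gc I J).cycles q) :
    θ I J q x = 0 ↔ (gc I J).homologyπ q x = 0 := by
  rw [FlatCx.homologyπ_eq_zero_iff (gc I J) (i := q - 1) (by simp)]
  constructor
  · intro h
    obtain ⟨⟨⟨m⟩⟩, f₁, f₂, hm⟩ := Concrete.colimit_exists_of_rep_eq (hdiF I J q)
      (i := ix (ord x)) (j := ix (ord x))
      (cd J q (qHom I J q (ord x) (zval x) (ord_spec x)) (qHom_closed I J q _ _ (ord_spec x) (zval_closed x)))
      0 (h.trans (map_zero _).symm)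
    rw [map_zero] at hm
    have hle : ord x ≤ m := leOfHom f₁.unop.unop
    have hz := fun a ha => ord_spec x a (Ideal.pow_le_pow_right hle ha)
    obtain ⟨g, hg⟩ := (cd_eq_zero_iff (qHom I J q m (zval x) hz)
      (qHom_closed I J q m _ hz (zval_closed x))).1 (by
        refine Eq.trans ?_ hm
        refine Eq.trans ?_ (cd_precomp J q
          ((localCohomology.ringModIdeals (localCohomology.idealPowersDiagram I)).map f₁.unop)
          (qHom I J q (ord x) (zval x) (ord_spec x))
          (qHom_closed I J q _ _ (ord_spec x) (zval_closed x)) (by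
            rw [Category.assoc, qHom_closed I J q _ _ (ord_spec x) (zval_closed x), comp_zero]))
        refine cd_congr J q _ _ ?_
        apply ModuleCat.hom_ext
        exact Submodule.linearMap_qext _ (LinearMap.ext fun r => rfl))
    refine ⟨⟨g (Submodule.Quotient.mk (1 : A)), m, fun a ha => ?_⟩, Subtype.ext ?_⟩
    · refine (map_smul g.hom a _).symm.trans ?_
      have : a • (Submodule.Quotient.mk (1 : A) : A ⧸ I ^ m) = 0 := by
        rw [← Submodule.Quotient.mk_smul, Submodule.Quotient.mk_eq_zero]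
        simpa using ha
      exact (congrArg g.hom this).trans (map_zero _)
    · exact (congr($hg (Submodule.Quotient.mk (1 : A)))).trans (one_smul _ _)
  · rintro ⟨⟨w, m, hw⟩, hwx⟩
    have hwx' : J.d (q - 1) q w = zval x := congrArg Subtype.val hwx
    have hz : ∀ a ∈ I ^ m, a • zval x = 0 := fun a ha => by
      rw [← hwx', ← map_smul, hw a ha, map_zero]
    refine (θ₀_eq x m hz).trans ?_
    rw [cls, (cd_eq_zero_iff _ _).2 ⟨ModuleCat.ofHom ((I ^ m).liftQ
      (LinearMap.toSpanSingleton A (J.X (q - 1)) w) fun a ha => hw a ha), ?_⟩, map_zero]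
    apply ModuleCat.hom_ext
    refine Submodule.linearMap_qext _ (LinearMap.ext fun r => ?_)
    change J.d (q - 1) q (r • w) = r • zval x
    rw [map_smul, hwx']

theorem nonempty_equiv :
    Nonempty (((gc I J).homology q : Type u) ≃ₗ[A] (colimit (hdiF I J q) : ModuleCat.{u + 1} A)) := by
  have h : LinearMap.ker (θ I J q) = LinearMap.ker ((gc I J).homologyπ q).hom := by
    ext x
    exact θ_eq_zero_iff x
  exact ⟨(LinearMap.quotKerEquivOfSurjective _ (FlatCx.homologyπ_surjective (gc I J))).symm ≪≫ₗ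
    Submodule.quotEquivOfEq _ _ h.symm ≪≫ₗ LinearMap.quotKerEquivOfSurjective _ θ_surjective⟩

theorem nonempty_HD_equiv {A : Type u} [CommRing A] (I : Ideal A) [DRing.HasRgammaI I] (K : Dual.D A) (q : ℤ) :
    Nonempty (Dual.HD A ((DRing.RgammaI I).obj K) q ≃ₗ[A] Dual2.HDI A I K q) := by
  obtain ⟨J, hJ, -, ⟨e⟩⟩ := exists_rep K
  haveI := isIso_gα_kinj I J
  obtain ⟨θe⟩ := nonempty_equiv (I := I) (J := J) (q := q)
  let f := ((DerivedCategory.homologyFunctor (ModuleCat.{u} A) q).mapIso
    (((DerivedCategory.quotientCompQhIso (ModuleCat.{u} A)).app (gc I J)).symm ≪≫ asIso (gα I J) ≪≫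
      (DRing.RgammaI I).mapIso e)).symm.toLinearEquiv
  let g := ((DerivedCategory.homologyFunctorFactors (ModuleCat.{u} A) q).app (gc I J)).toLinearEquiv
  exact ⟨f ≪≫ₗ g ≪≫ₗ θe ≪≫ₗ (HasColimit.isoOfNatIso (Functor.isoWhiskerLeft _
    ((linearYoneda A (Dual.D A)).mapIso ((shiftFunctor (Dual.D A) q).mapIso
      (((DerivedCategory.quotientCompQhIso (ModuleCat.{u} A)).app J).symm ≪≫ e))))).toLinearEquiv⟩

end Groth.Agent.RGammaI
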