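import Groth.Agent.RGammaI.Acyclic
import Groth.Agent.RGammaI.HDI
import Groth.Agent.LocH.ChangeRings
import Groth.Agent.DRingKP.FlatBC
import Groth.Agent.DTenLib.BaseAdj
import Groth.Agent.S11616

/-!
Local cohomology of complexes under change of rings.
-/

set_option autoImplicit false
set_option linter.style.haveILetI false
set_option backward.isDefEq.respectTransparency false
set_option backward.isDefEq.respectTransparency.types false
universe v u

namespace Groth.Agent.RGammaI

open CategoryTheory Limits HomologicalComplex TensorProduct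

attribute [local instance] HasDerivedCategory.standard

variable {A B : Type u} [CommRing A] [CommRing B] [Algebra A B]

/-- `HDI` through a complex computing `RΓ_I` -/
theorem nonempty_HDI_equiv (I : Ideal A) [DRing.HasRgammaI I] {J : DRing.Cx A} (h : IsIso (gα I J))
    {K : Dual.D A} (e : DRing.toD J ≅ K) (q : ℤ) :
    Nonempty (((gc I J).homology q : Type u) ≃ₗ[A] Dual2.HDI A I K q) := by
  obtain ⟨ε⟩ := nonempty_HD_equiv I K q
  exact ⟨(((DerivedCategory.homologyFunctorFactors (ModuleCat.{u} A) q).app (gc I J)).symm ≪≫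
    (DerivedCategory.homologyFunctor (ModuleCat.{u} A) q).mapIso
      (((DerivedCategory.quotientCompQhIso (ModuleCat.{u} A)).app (gc I J)).symm ≪≫ asIso (gα I J) ≪≫
        (DRing.RgammaI I).mapIso ((DerivedCategory.quotientCompQhIso (ModuleCat.{u} A)).app J ≪≫ e))).toLinearEquiv ≪≫ₗ ε⟩

section Restrict

/-- torsion of a restricted module -/
noncomputable def resGammaEquiv (I : Ideal A) (M : ModuleCat.{u} B) :
    (DRing.gammaI I).obj ((ModuleCat.restrictScalars.{u} (algebraMap A B)).obj M) ≅
      (ModuleCat.restrictScalars.{u} (algebraMap A B)).obj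
        ((DRing.gammaI (I.map (algebraMap A B))).obj M) :=
  letI : Module A M := Module.compHom M (algebraMap A B)
  haveI : IsScalarTower A B M := IsScalarTower.of_algebraMap_smul fun _ _ => rfl
  LinearEquiv.toModuleIso
    (X₁ := (DRing.gammaI I).obj ((ModuleCat.restrictScalars.{u} (algebraMap A B)).obj M))
    (X₂ := (ModuleCat.restrictScalars.{u} (algebraMap A B)).obj ((DRing.gammaI (I.map (algebraMap A B))).obj M))
    { toFun := fun x => (⟨x.1, (LocH.mem_torsionSub_map_iff (R := A) (R' := B) (G := M) I).2 x.2⟩ :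
        DRing.torsionSub (I.map (algebraMap A B)) M)
      invFun := fun x => ⟨x.1, (LocH.mem_torsionSub_map_iff (R := A) (R' := B) (G := M) I).1 x.2⟩
      map_add' := fun _ _ => rfl
      map_smul' := fun _ _ => rfl
      left_inv := fun _ => rfl
      right_inv := fun _ => rfl }

/-- `Γ_I` of a restricted complex -/
noncomputable def resGammaCx (I : Ideal A) (J : DRing.Cx B) :
    gc I ((DRing.restrictCx (algebraMap A B)).obj J) ≅
      (DRing.restrictCx (algebraMap A B)).obj (gc (I.map (algebraMap A B)) J) :=
  HomologicalComplex.Hom.isoOfComponents (fun i => resGammaEquiv I (J.X i)) fun _ _ _ => rfl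

lemma ac_restrict [IsNoetherianRing B] (s : Finset A) {J : DRing.Cx B} (hJ : TI J) :
    AC s ((DRing.restrictCx (algebraMap A B)).obj J) := fun i t _ a _ => by
  letI : Module A (J.X i) := Module.compHom (J.X i) (algebraMap A B)
  haveI : IsScalarTower A B (J.X i) := IsScalarTower.of_algebraMap_smul fun _ _ => rfl
  haveI : Module.Injective B (J.X i) := Module.injective_module_of_injective_object B _ (inj := hJ i)
  exact LocH.divModTors_torsionSub (R' := B) (G := J.X i) _ a

theorem nonempty_HDI_restrict [IsNoetherianRing A] [IsNoetherianRing B] (I : Ideal A) (K : Dual.D B) (q : ℤ) :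
    Nonempty (Dual2.HDI A I ((DRing.restrictD (algebraMap A B)).obj K) q ≅
      (ModuleCat.restrictScalars (algebraMap A B)).obj (Dual2.HDI B (I.map (algebraMap A B)) K q)) := by
  obtain ⟨s, rfl⟩ := IsNoetherian.noetherian I
  obtain ⟨J, hJ, hTI, ⟨e⟩⟩ := exists_rep K
  haveI := hasRgammaI (Ideal.span (s : Set A))
  haveI := hasRgammaI ((Ideal.span (s : Set A)).map (algebraMap A B))
  let eJ : DRing.toD J ≅ K := ((DerivedCategory.quotientCompQhIso (ModuleCat.{u} B)).app J).symm ≪≫ e
  obtain ⟨εA⟩ := nonempty_HDI_equiv (Ideal.span (s : Set A))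
    (isIso_gα_ac (ac_restrict (A := A) s hTI))
    (K := (DRing.restrictD (algebraMap A B)).obj K)
    (((ModuleCat.restrictScalars.{u} (algebraMap A B)).mapDerivedCategoryFactors.app J).symm ≪≫
      (DRing.restrictD (algebraMap A B)).mapIso eJ) q
  obtain ⟨εB⟩ := nonempty_HDI_equiv ((Ideal.span (s : Set A)).map (algebraMap A B))
    (isIso_gα_kinj _ J) eJ q
  let h : (gc (Ideal.span (s : Set A)) ((DRing.restrictCx (algebraMap A B)).obj J)).homology q ≅
      (ModuleCat.restrictScalars.{u} (algebraMap A B)).obj
        ((gc ((Ideal.span (s : Set A)).map (algebraMap A B)) J).homology q) :=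
    (HomologicalComplex.homologyFunctor _ _ q).mapIso (resGammaCx (Ideal.span (s : Set A)) J) ≪≫
      ((gc ((Ideal.span (s : Set A)).map (algebraMap A B)) J).sc q).mapHomologyIso
        (ModuleCat.restrictScalars.{u} (algebraMap A B))
  let t : ((ModuleCat.restrictScalars.{u} (algebraMap A B)).obj
        ((gc ((Ideal.span (s : Set A)).map (algebraMap A B)) J).homology q)) ≃ₗ[A]
      (ModuleCat.restrictScalars.{u + 1} (algebraMap A B)).obj
        (Dual2.HDI B ((Ideal.span (s : Set A)).map (algebraMap A B)) K q) :=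
    { toFun := fun x => εB x
      map_add' := fun x y => εB.map_add x y
      map_smul' := fun a x => εB.map_smul (algebraMap A B a) x
      invFun := fun x => εB.symm x
      left_inv := fun x => εB.symm_apply_apply x
      right_inv := fun x => εB.apply_symm_apply x }
  exact ⟨(εA.symm ≪≫ₗ h.toLinearEquiv ≪≫ₗ t).toModuleIso⟩

end Restrict

section Flat

/-- the extension of scalars is the tensor product, in any universe -/
noncomputable def extEquiv (M : Type max u v) [AddCommGroup M] [Module A M] :
    (ModuleCat.extendScalars.{u, u, max u v} (algebraMap A B)).obj (ModuleCat.of A M) ≃ₗ[B] B ⊗[A] M :=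
  let e₁ : (ModuleCat.restrictScalars.{u} (algebraMap A B)).obj (ModuleCat.of B B) ≃ₗ[A] B :=
    { toFun := fun x => x
      map_add' := fun _ _ => rfl
      map_smul' := fun a x => by
        rw [RingHom.id_apply, Algebra.smul_def]
        rfl
      invFun := fun x => x
      left_inv := fun _ => rfl
      right_inv := fun _ => rfl }
  let e₀ : ((ModuleCat.restrictScalars.{u} (algebraMap A B)).obj (ModuleCat.of B B)) ⊗[A] M ≃ₗ[A]
      B ⊗[A] M := TensorProduct.congr e₁ (LinearEquiv.refl A M)
  { toFun := fun x => e₀ x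
    map_add' := fun x y => e₀.map_add x y
    map_smul' := fun c x => by
      induction x using TensorProduct.induction_on with
      | zero =>
        exact (congrArg e₀ (smul_zero (A := (ModuleCat.extendScalars.{u, u, max u v} (algebraMap A B)).obj
          (ModuleCat.of A M)) c)).trans (e₀.map_zero.trans
            ((congrArg (c • ·) e₀.map_zero).trans (smul_zero c)).symm)
      | tmul b y => rfl
      | add x y hx hy =>
        exact (congrArg e₀ (smul_add (A := (ModuleCat.extendScalars.{u, u, max u v} (algebraMap A B)).obj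
          (ModuleCat.of A M)) c x y)).trans ((e₀.map_add _ _).trans ((congrArg₂ (· + ·) hx hy).trans
          ((smul_add _ _ _).symm.trans (congrArg (c • ·) (e₀.map_add x y).symm))))
    invFun := fun x => e₀.symm x
    left_inv := fun x => e₀.symm_apply_apply x
    right_inv := fun x => e₀.apply_symm_apply x }

/-- abbreviation for the extension -/
noncomputable abbrev ext₀ (A B : Type u) [CommRing A] [CommRing B] [Algebra A B] :
    ModuleCat.{u} A ⥤ ModuleCat.{u} B :=
  ModuleCat.extendScalars.{u, u, u} (algebraMap A B)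

lemma extEquiv_map {M N : ModuleCat.{u} A} (f : M ⟶ N) (x : (ext₀ A B).obj M) :
    extEquiv.{u} (A := A) (B := B) N ((ext₀ A B).map f x) = f.hom.baseChange B (extEquiv.{u} (A := A) (B := B) M x) := by
  induction x using TensorProduct.induction_on with
  | zero =>
    exact ((congrArg _ (map_zero ((ext₀ A B).map f).hom)).trans (map_zero (extEquiv.{u} (A := A) (B := B) N))).trans
      ((congrArg _ (map_zero (extEquiv.{u} (A := A) (B := B) M))).trans (map_zero _)).symm
  | tmul b y => rfl
  | add x y hx hy =>
    exact ((congrArg _ (map_add ((ext₀ A B).map f).hom x y)).trans (map_add (extEquiv.{u} (A := A) (B := B) N) _ _)).trans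
      ((congrArg₂ (· + ·) hx hy).trans
        ((congrArg _ (map_add (extEquiv.{u} (A := A) (B := B) M) x y)).trans (map_add _ _ _)).symm)

variable [IsNoetherianRing A] [IsNoetherianRing B] [Module.Flat A B]

lemma ac_extend (s : Finset A) [DecidableEq B] {J : DRing.Cx A} (hJ : TI J) :
    AC (s.image (algebraMap A B))
      (((ext₀ A B).mapHomologicalComplex (ComplexShape.up ℤ)).obj J) := by
  intro i t ht b hb
  obtain ⟨t', ht', rfl⟩ := Finset.subset_image_iff.1 ht
  obtain ⟨a, ha, rfl⟩ := Finset.mem_image.1 hb
  haveI : Module.Injective A (J.X i) := Module.injective_module_of_injective_object A _ (inj := hJ i)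
  haveI := LocH.injective_tensor_flat (R' := B) (R := A) (J.X i)
  intro n z
  let e := extEquiv.{u} (A := A) (B := B) (J.X i)
  have hz : e z.1 ∈ DRing.torsionSub (Ideal.span (t' : Set A)) (B ⊗[A] J.X i) := by
    rw [← LocH.mem_torsionSub_map_iff (R' := B), Ideal.map_span, ← Finset.coe_image]
    exact DRing.map_mem_torsionSub _ e.toLinearMap z.2
  obtain ⟨w, m, hw⟩ := LocH.divModTors_torsionSub (R' := A) (G := B ⊗[A] J.X i) _ a n ⟨e z.1, hz⟩
  have hw' : a ^ m • (a ^ n • (w : B ⊗[A] J.X i) - e z.1) = 0 := congrArg Subtype.val hw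
  refine ⟨⟨e.symm w.1, ?_⟩, m, Subtype.ext (e.injective ?_)⟩
  · have hw2 : (w : B ⊗[A] J.X i) ∈ DRing.torsionSub (Ideal.span ((t'.image (algebraMap A B) : Finset B) : Set B))
        (B ⊗[A] J.X i) := by
      rw [Finset.coe_image, ← Ideal.map_span, LocH.mem_torsionSub_map_iff]
      exact w.2
    exact DRing.map_mem_torsionSub _ e.symm.toLinearMap hw2
  · rw [Submodule.coe_smul, Submodule.coe_sub, Submodule.coe_smul, Submodule.coe_zero, map_zero, map_smul,
      map_sub, map_smul, LinearEquiv.apply_symm_apply, ← map_pow, ← map_pow, algebraMap_smul, algebraMap_smul]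
    exact hw'

/-- base change of the torsion submodule, into the torsion -/
noncomputable def extGammaHom (I : Ideal A) (M : ModuleCat.{u} A) :
    (ext₀ A B).obj ((DRing.gammaI I).obj M) ⟶ (DRing.gammaI (I.map (algebraMap A B))).obj ((ext₀ A B).obj M) :=
  ModuleCat.ofHom
    (X := (ext₀ A B).obj ((DRing.gammaI I).obj M))
    (Y := DRing.torsionSub (I.map (algebraMap A B)) ((ext₀ A B).obj M))
    (((ext₀ A B).map ((DRing.gammaIι I).app M)).hom.codRestrict _ fun x => by
      have h : extEquiv.{u} (A := A) (B := B) M ((ext₀ A B).map ((DRing.gammaIι I).app M) x) ∈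
          DRing.torsionSub (I.map (algebraMap A B)) (B ⊗[A] M) :=
        (congrArg (· ∈ DRing.torsionSub (I.map (algebraMap A B)) (B ⊗[A] M))
          (extEquiv_map (B := B) ((DRing.gammaIι I).app M) x)).mpr
          ((S11616.result A B I M).2.le (LinearMap.mem_range_self _ _))
      simpa using DRing.map_mem_torsionSub _ (extEquiv.{u} (A := A) (B := B) M).symm.toLinearMap h)

lemma isIso_extGammaHom (I : Ideal A) (M : ModuleCat.{u} A) : IsIso (extGammaHom (B := B) I M) := by
  rw [ConcreteCategory.isIso_iff_bijective]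
  constructor
  · intro x y h
    have h' : (ext₀ A B).map ((DRing.gammaIι I).app M) x = (ext₀ A B).map ((DRing.gammaIι I).app M) y :=
      congrArg Subtype.val h
    apply (extEquiv.{u} (A := A) (B := B) ((DRing.gammaI I).obj M)).injective
    apply (S11616.result A B I M).1
    have := congrArg (extEquiv.{u} (A := A) (B := B) M) h'
    exact (extEquiv_map (B := B) ((DRing.gammaIι I).app M) x).symm.trans
      (this.trans (extEquiv_map (B := B) ((DRing.gammaIι I).app M) y))
  · intro z
    have hz := DRing.map_mem_torsionSub _ (extEquiv.{u} (A := A) (B := B) M).toLinearMap z.2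
    rw [← (S11616.result A B I M).2] at hz
    obtain ⟨w, hw⟩ := hz
    refine ⟨(extEquiv.{u} (A := A) (B := B) ((DRing.gammaI I).obj M)).symm w,
      Subtype.ext ((extEquiv.{u} (A := A) (B := B) M).injective ?_)⟩
    refine (extEquiv_map _ _).trans ?_
    erw [LinearEquiv.apply_symm_apply]
    exact hw

/-- base change commutes with torsion -/
noncomputable def extGammaCx (I : Ideal A) (J : DRing.Cx A) :
    ((ext₀ A B).mapHomologicalComplex (ComplexShape.up ℤ)).obj (gc I J) ≅
      gc (I.map (algebraMap A B)) (((ext₀ A B).mapHomologicalComplex (ComplexShape.up ℤ)).obj J) :=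
  HomologicalComplex.Hom.isoOfComponents
    (fun i => @asIso _ _ _ _ (extGammaHom I (J.X i)) (isIso_extGammaHom I (J.X i)))
    fun i j _ => ModuleCat.hom_ext (LinearMap.ext fun x => Subtype.ext
      (congr($(((ext₀ A B).congr_map ((DRing.gammaIι I).naturality (J.d i j))).symm.trans
        ((ext₀ A B).map_comp _ _)) x).symm.trans
        (by rw [Functor.map_comp]; rfl)).symm)

theorem nonempty_HDI_baseChange [DRing.HasLBaseChange (algebraMap A B)] (I : Ideal A) (K : Dual.D A) (q : ℤ) :
    Nonempty (Dual2.HDI B (I.map (algebraMap A B)) ((DRing.LBaseChange (algebraMap A B)).obj K) q ≅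
      (ModuleCat.extendScalars (algebraMap A B)).obj (Dual2.HDI A I K q)) := by
  classical
  obtain ⟨s, rfl⟩ := IsNoetherian.noetherian I
  obtain ⟨J, hJ, hTI, ⟨e⟩⟩ := exists_rep K
  haveI := hasRgammaI (Ideal.span (s : Set A))
  let eJ : DRing.toD J ≅ K := ((DerivedCategory.quotientCompQhIso (ModuleCat.{u} A)).app J).symm ≪≫ e
  haveI : PreservesFiniteLimits (ext₀ A B) :=
    ModuleCat.preservesFiniteLimits_extendScalars_of_flat (RingHom.flat_algebraMap_iff.mpr ‹_›)
  haveI : IsIso (DRingKP.cmp (algebraMap A B) J) := by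
    obtain ⟨P, c, hP, -, -, hc⟩ := DRingKP.exists_kProj_kFlat_resolution J
    haveI := hc
    haveI := DRingKP.isIso_cmp (algebraMap A B) P
    haveI : QuasiIso ((DRingKP.bc (algebraMap A B)).map c) := inferInstance
    have : IsIso ((DRing.LBaseChange (algebraMap A B)).map (DerivedCategory.Q.map c) ≫
        DRingKP.cmp (algebraMap A B) J) := by
      rw [DRingKP.cmp_naturality]; infer_instance
    exact IsIso.of_isIso_comp_left ((DRing.LBaseChange (algebraMap A B)).map (DerivedCategory.Q.map c)) _
  have hmap : (Ideal.span (s : Set A)).map (algebraMap A B) =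
      Ideal.span ((s.image (algebraMap A B) : Finset B) : Set B) := by
    rw [Ideal.map_span, Finset.coe_image]
  haveI := hasRgammaI ((Ideal.span (s : Set A)).map (algebraMap A B))
  have hα : IsIso (gα ((Ideal.span (s : Set A)).map (algebraMap A B))
      (((ext₀ A B).mapHomologicalComplex (ComplexShape.up ℤ)).obj J)) := by
    have key : ∀ (I' : Ideal B) (s' : Finset B) (J' : DRing.Cx B) [DRing.HasRgammaI I'],
        I' = Ideal.span (s' : Set B) → AC s' J' → IsIso (gα I' J') := by
      intro I' s' J' _ hI hac
      subst hI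
      exact isIso_gα_ac hac
    exact key _ _ _ hmap (ac_extend s hTI)
  obtain ⟨εB⟩ := nonempty_HDI_equiv _ hα (K := (DRing.LBaseChange (algebraMap A B)).obj K)
    ((asIso (DRingKP.cmp (algebraMap A B) J)).symm ≪≫ (DRing.LBaseChange (algebraMap A B)).mapIso eJ) q
  obtain ⟨εA⟩ := nonempty_HDI_equiv (Ideal.span (s : Set A)) (isIso_gα_kinj _ J) eJ q
  let h : (gc ((Ideal.span (s : Set A)).map (algebraMap A B))
      (((ext₀ A B).mapHomologicalComplex (ComplexShape.up ℤ)).obj J)).homology q ≅
      (ext₀ A B).obj ((gc (Ideal.span (s : Set A)) J).homology q) :=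
    (HomologicalComplex.homologyFunctor _ _ q).mapIso (extGammaCx (Ideal.span (s : Set A)) J).symm ≪≫
      ((gc (Ideal.span (s : Set A)) J).sc q).mapHomologyIso (ext₀ A B)
  exact ⟨(εB.symm ≪≫ₗ h.toLinearEquiv ≪≫ₗ extEquiv.{u} ((gc (Ideal.span (s : Set A)) J).homology q) ≪≫ₗ
    LinearEquiv.baseChange A B _ _ εA ≪≫ₗ
    (extEquiv.{u + 1} (Dual2.HDI A (Ideal.span (s : Set A)) K q)).symm).toModuleIso⟩

end Flat

end Groth.Agent.RGammaI
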