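import Groth.Prelude.Def_DRing3
import Groth.Agent.LocH.Cd
import Groth.Agent.FlatCx.Homology
import Groth.Agent.DerPlus.Acyclic

/-!
Torsion subcomplexes of complexes of injective modules over Noetherian rings.
-/

set_option autoImplicit false
set_option linter.style.haveILetI false
set_option backward.isDefEq.respectTransparency false
set_option backward.isDefEq.respectTransparency.types false
universe u

namespace Groth.Agent.RGammaI

open CategoryTheory Limits

variable {A : Type u} [CommRing A]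

/-- `Γ_I` on complexes -/
noncomputable abbrev gc (I : Ideal A) (J : DRing.Cx A) : DRing.Cx A :=
  ((DRing.gammaI I).mapHomologicalComplex (ComplexShape.up ℤ)).obj J

/-- `Γ_I` on maps of complexes -/
noncomputable abbrev gm (I : Ideal A) {J J' : DRing.Cx A} (f : J ⟶ J') : gc I J ⟶ gc I J' :=
  ((DRing.gammaI I).mapHomologicalComplex (ComplexShape.up ℤ)).map f

/-- `Γ_I J → J` -/
noncomputable def gι (I : Ideal A) (J : DRing.Cx A) : gc I J ⟶ J where
  f i := (DRing.gammaIι I).app (J.X i)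
  comm' _ _ _ := rfl

lemma gι_natural (I : Ideal A) {J J' : DRing.Cx A} (f : J ⟶ J') :
    gm I f ≫ gι I J' = gι I J ≫ f := by
  ext i : 1
  rfl

/-- termwise injective -/
def TI (J : DRing.Cx A) : Prop := ∀ i, Injective (J.X i)

/-- boundaries in the torsion are boundaries of torsion elements, cycles are torsion up to boundaries -/
def Good (K : Ideal A) (J : DRing.Cx A) : Prop :=
  (∀ (i : ℤ) (x : J.X i), x ∈ DRing.torsionSub K (J.X i) → ∀ y : J.X (i - 1), J.d (i - 1) i y = x →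
      ∃ y' : J.X (i - 1), y' ∈ DRing.torsionSub K (J.X (i - 1)) ∧ J.d (i - 1) i y' = x) ∧
    ∀ (i : ℤ) (x : J.X i), J.d i (i + 1) x = 0 →
      ∃ y : J.X (i - 1), x - J.d (i - 1) i y ∈ DRing.torsionSub K (J.X i)

/-- the cycles are killed by powers of `a` modulo boundaries -/
def Kills (a : A) (J : DRing.Cx A) : Prop :=
  ∀ (i : ℤ) (x : J.X i), J.d i (i + 1) x = 0 →
    ∃ (n : ℕ) (y : J.X (i - 1)), J.d (i - 1) i y = a ^ n • x

lemma dd_apply (J : DRing.Cx A) (i j k : ℤ) (x : J.X i) : J.d j k (J.d i j x) = 0 := by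
  have h := J.d_comp_d i j k
  exact congr($h x)

lemma good_bot (J : DRing.Cx A) : Good (⊥ : Ideal A) J := by
  have h : ∀ (i : ℤ) (x : J.X i), x ∈ DRing.torsionSub (⊥ : Ideal A) (J.X i) := fun i x =>
    ⟨1, fun a ha => by rw [pow_one, Ideal.mem_bot] at ha; rw [ha, zero_smul]⟩
  exact ⟨fun i x _ y hy => ⟨y, h _ y, hy⟩, fun i x _ => ⟨0, h _ _⟩⟩

lemma good_sup {J : DRing.Cx A} {K : Ideal A} {a : A}
    (hdiv : ∀ i, LocH.DivModTors a ↥(DRing.torsionSub K (J.X i)))
    (ha : Kills a J) (h : Good K J) : Good (K ⊔ Ideal.span {a}) J := by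
  refine ⟨fun i x hx y hy => ?_, fun i x hx => ?_⟩
  · obtain ⟨y₁, hy₁, hy₁x⟩ := h.1 i x (LocH.torsionSub_anti le_sup_left _ hx) y hy
    obtain ⟨n, hn⟩ := LocH.mem_torsionSub_span_singleton_iff.1 (LocH.torsionSub_anti le_sup_right _ hx)
    have hc : ∀ j, j = i → J.d (i - 1) j (a ^ n • y₁) = 0 := by
      rintro j rfl
      rw [map_smul, hy₁x, hn]
    obtain ⟨p, z, hz⟩ := ha (i - 1) _ (hc _ (by lia))
    obtain ⟨z₁, hz₁, hz₁x⟩ := h.1 (i - 1) _
      (Submodule.smul_mem _ _ (Submodule.smul_mem _ _ hy₁)) z hz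
    obtain ⟨w, m, hw⟩ := hdiv (i - 1 - 1) (p + n) ⟨z₁, hz₁⟩
    have hw' : a ^ m • (a ^ (p + n) • (w : J.X (i - 1 - 1)) - z₁) = 0 := congrArg Subtype.val hw
    refine ⟨y₁ - J.d (i - 1 - 1) (i - 1) w.1, LocH.torsionSub_sup
      (sub_mem hy₁ (DRing.map_mem_torsionSub K (J.d _ _).hom w.2))
      (LocH.mem_torsionSub_span_singleton_iff.2 ⟨m + (p + n), ?_⟩), ?_⟩
    · have h2 := congrArg (J.d (i - 1 - 1) (i - 1)) hw'
      rw [map_smul, map_sub, map_smul, hz₁x, map_zero, smul_smul, ← pow_add] at h2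
      rw [smul_sub, sub_eq_zero] at h2
      rw [pow_add, mul_smul, smul_sub, smul_sub, sub_eq_zero]
      exact h2.symm
    · rw [map_sub, hy₁x, dd_apply, sub_zero]
  · obtain ⟨y₀, hy₀⟩ := h.2 i x hx
    set x₀ := x - J.d (i - 1) i y₀ with hx₀
    have hc : J.d i (i + 1) x₀ = 0 := by rw [hx₀, map_sub, hx, dd_apply, sub_zero]
    obtain ⟨n, y, hy⟩ := ha i x₀ hc
    obtain ⟨y₁, hy₁, hy₁x⟩ := h.1 i _ (Submodule.smul_mem _ _ hy₀) y hy
    obtain ⟨w, m, hw⟩ := hdiv (i - 1) n ⟨y₁, hy₁⟩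
    have hw' : a ^ m • (a ^ n • (w : J.X (i - 1)) - y₁) = 0 := congrArg Subtype.val hw
    refine ⟨y₀ + w, LocH.torsionSub_sup ?_ (LocH.mem_torsionSub_span_singleton_iff.2 ⟨m + n, ?_⟩)⟩
    · rw [map_add, ← sub_sub, ← hx₀]
      exact sub_mem hy₀ (DRing.map_mem_torsionSub K (J.d _ _).hom w.2)
    · have h2 := congrArg (J.d (i - 1) i) hw'
      rw [map_smul, map_sub, map_smul, hy₁x, map_zero] at h2
      rw [smul_sub, sub_eq_zero] at h2
      rw [map_add, ← sub_sub, ← hx₀, pow_add, mul_smul, smul_sub, smul_sub, sub_eq_zero]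
      exact h2.symm

lemma good_of_kills [IsNoetherianRing A] {J : DRing.Cx A} (hJ : TI J) {I : Ideal A}
    (h : ∀ a ∈ I, Kills a J) : Good I J := by
  classical
  obtain ⟨s, rfl⟩ := IsNoetherian.noetherian I
  induction s using Finset.induction_on with
  | empty => simpa using good_bot J
  | @insert a s _ ih =>
    rw [Finset.coe_insert, Submodule.span_insert, sup_comm]
    exact good_sup (fun i =>
        haveI : Module.Injective A (J.X i) := Module.injective_module_of_injective_object A _ (inj := hJ i)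
        LocH.divModTors_torsionSub (R' := A) _ a) (h a (Submodule.subset_span (by simp)))
      (ih fun b hb => h b (Submodule.span_mono (by simp) hb))

lemma kills_of_torsion {J : DRing.Cx A} {I : Ideal A}
    (h : ∀ i, LocCoh.IsPowerTorsion I (J.homology i)) {a : A} (ha : a ∈ I) : Kills a J := by
  intro i x hx
  obtain ⟨c, rfl⟩ := FlatCx.exists_cycles J (k := i + 1) (by simp) x hx
  obtain ⟨n, hn⟩ := h i (J.homologyπ i c)
  have h0 : J.homologyπ i (a ^ n • c) = 0 := by
    rw [map_smul]; exact hn _ (Ideal.pow_mem_pow ha n)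
  obtain ⟨y, hy⟩ := (FlatCx.homologyπ_eq_zero_iff J (i := i - 1) (by simp) _).1 h0
  exact ⟨n, y, hy.trans (map_smul _ _ _)⟩

lemma quasiIso_gι_of_good {J : DRing.Cx A} {I : Ideal A} (h : Good I J) : QuasiIso (gι I J) := by
  refine ⟨fun i => (quasiIsoAt_iff_isIso_homologyMap _ i).2 ?_⟩
  rw [ConcreteCategory.isIso_iff_bijective]
  refine ⟨(FlatCx.homologyMap_injective_iff (gι I J) (i := i - 1) (k := i + 1) (by simp) (by simp)).2 ?_,
    (FlatCx.homologyMap_surjective_iff (gι I J) (i := i - 1) (k := i + 1) (by simp) (by simp)).2 ?_⟩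
  · rintro z hz ⟨y, hy⟩
    obtain ⟨y', hy', hyx⟩ := h.1 i _ z.2 y hy
    exact ⟨⟨y', hy'⟩, Subtype.ext hyx⟩
  · intro z hz
    obtain ⟨y, hy⟩ := h.2 i z hz
    refine ⟨⟨_, hy⟩, Subtype.ext ?_, ⟨-y, ?_⟩⟩
    · change J.d i (i + 1) (z - J.d (i - 1) i y) = 0
      rw [map_sub, hz, dd_apply, sub_zero]
    · change J.d (i - 1) i (-y) = (z - J.d (i - 1) i y) - z
      rw [map_neg, sub_sub_cancel_left]

/-- `Γ_I J → J` for a complex of injectives with torsion cohomology -/
theorem quasiIso_gι [IsNoetherianRing A] {J : DRing.Cx A} (hJ : TI J) {I : Ideal A}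
    (h : ∀ i, LocCoh.IsPowerTorsion I (J.homology i)) : QuasiIso (gι I J) :=
  quasiIso_gι_of_good (good_of_kills hJ fun _ ha => kills_of_torsion h ha)

/-- the cohomology of `Γ_I J` is torsion -/
theorem isPowerTorsion_homology_gc (I : Ideal A) (J : DRing.Cx A) (i : ℤ) :
    LocCoh.IsPowerTorsion I ((gc I J).homology i) := by
  intro m
  obtain ⟨c, rfl⟩ := FlatCx.homologyπ_surjective (gc I J) m
  obtain ⟨n, hn⟩ := ((gc I J).iCycles i c).2
  refine ⟨n, fun a ha => ?_⟩
  rw [← map_smul]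
  have h0 : a • c = 0 := FlatCx.iCycles_injective (gc I J) (by
    rw [map_smul, map_zero]; exact Subtype.ext (hn a ha))
  rw [h0, map_zero]

lemma TI.gc [IsNoetherianRing A] {J : DRing.Cx A} (hJ : TI J) (I : Ideal A) : TI (gc I J) := fun i =>
  haveI := hJ i
  LocH.injective_gammaI_obj I (J.X i)

/-- `Γ_I` preserves quasi-isomorphisms between complexes of injectives -/
theorem quasiIso_gm [IsNoetherianRing A] (I : Ideal A) {J J' : DRing.Cx A} (hJ : TI J) (hJ' : TI J')
    (f : J ⟶ J') [QuasiIso f] : QuasiIso (gm I f) := by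
  have hC : (CochainComplex.mappingCone f).Acyclic :=
    (DerPlus.quasiIso_iff_acyclic_mappingCone f).1 inferInstance
  have hTI : TI (CochainComplex.mappingCone f) := fun i => by
    haveI := hJ (i + 1)
    haveI := hJ' i
    exact Injective.of_iso (HomologicalComplex.homotopyCofiber.XIsoBiprod f i (i + 1) rfl).symm inferInstance
  have := quasiIso_gι hTI (I := I) fun i => by
    intro m
    haveI := ModuleCat.subsingleton_of_isZero ((HomologicalComplex.exactAt_iff_isZero_homology _ _).1 (hC i))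
    exact ⟨0, fun a _ => Subsingleton.elim _ _⟩
  rw [DerPlus.quasiIso_iff_acyclic_mappingCone]
  intro i
  refine HomologicalComplex.ExactAt.of_iso ?_
    (CochainComplex.mappingCone.mapHomologicalComplexIso f (DRing.gammaI I))
  rw [HomologicalComplex.exactAt_iff_isZero_homology]
  exact ((HomologicalComplex.exactAt_iff_isZero_homology _ _).1 (hC i)).of_iso
    (asIso (HomologicalComplex.homologyMap (gι I (CochainComplex.mappingCone f)) i))

end Groth.Agent.RGammaI
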