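import Groth.Agent.RGammaI.Derived

/-!
Complexes which compute `RΓ_I`: torsion submodules divisible up to torsion.
-/

set_option autoImplicit false
set_option linter.style.haveILetI false
set_option backward.isDefEq.respectTransparency false
set_option backward.isDefEq.respectTransparency.types false
universe u

namespace Groth.Agent.RGammaI

open CategoryTheory Limits HomologicalComplex

attribute [local instance] HasDerivedCategory.standard

variable {A : Type u} [CommRing A]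

/-- adapted to the generators `s` -/
def AC (s : Finset A) (J : DRing.Cx A) : Prop :=
  ∀ (i : ℤ), ∀ t ⊆ s, ∀ a ∈ s,
    LocH.DivModTors a ↥(DRing.torsionSub (Ideal.span (t : Set A)) (J.X i))

lemma ac_of_ti [IsNoetherianRing A] (s : Finset A) {J : DRing.Cx A} (hJ : TI J) : AC s J :=
  fun i t _ a _ =>
    haveI : Module.Injective A (J.X i) := Module.injective_module_of_injective_object A _ (inj := hJ i)
    LocH.divModTors_torsionSub (R' := A) _ a

lemma AC.good {s : Finset A} {J : DRing.Cx A} (hJ : AC s J) (h : ∀ a ∈ s, Kills a J) :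
    Good (Ideal.span (s : Set A)) J := by
  classical
  suffices ∀ t, t ⊆ s → Good (Ideal.span (t : Set A)) J from this s subset_rfl
  intro t
  induction t using Finset.induction_on with
  | empty => intro _; simpa using good_bot J
  | @insert a t _ ih =>
    intro ht
    rw [Finset.coe_insert, Ideal.span_insert, sup_comm]
    obtain ⟨ha, ht'⟩ := Finset.insert_subset_iff.1 ht
    exact good_sup (fun i => hJ i t ht' a ha) (h a ha) (ih ht')

theorem quasiIso_gι_ac {s : Finset A} {J : DRing.Cx A} (hJ : AC s J)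
    (h : ∀ i, LocCoh.IsPowerTorsion (Ideal.span (s : Set A)) (J.homology i)) :
    QuasiIso (gι (Ideal.span (s : Set A)) J) :=
  quasiIso_gι_of_good (hJ.good fun _ ha => kills_of_torsion h (Ideal.subset_span ha))

lemma divModTors_of_decomp {K : Ideal A} {a : A} {P P₁ P₂ : ModuleCat.{u} A}
    (p₁ : P ⟶ P₁) (i₁ : P₁ ⟶ P) (p₂ : P ⟶ P₂) (i₂ : P₂ ⟶ P)
    (hd : p₁ ≫ i₁ + p₂ ≫ i₂ = 𝟙 P)
    (h₁ : LocH.DivModTors a ↥(DRing.torsionSub K P₁)) (h₂ : LocH.DivModTors a ↥(DRing.torsionSub K P₂)) :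
    LocH.DivModTors a ↥(DRing.torsionSub K P) := by
  intro n z
  obtain ⟨w₁, m₁, e₁⟩ := h₁ n ⟨p₁ z.1, DRing.map_mem_torsionSub K p₁.hom z.2⟩
  obtain ⟨w₂, m₂, e₂⟩ := h₂ n ⟨p₂ z.1, DRing.map_mem_torsionSub K p₂.hom z.2⟩
  have e₁' : a ^ m₁ • (a ^ n • (w₁ : P₁) - p₁ z.1) = 0 := congrArg Subtype.val e₁
  have e₂' : a ^ m₂ • (a ^ n • (w₂ : P₂) - p₂ z.1) = 0 := congrArg Subtype.val e₂
  refine ⟨⟨i₁ w₁.1 + i₂ w₂.1, add_mem (DRing.map_mem_torsionSub K i₁.hom w₁.2)
    (DRing.map_mem_torsionSub K i₂.hom w₂.2)⟩, m₁ + m₂, Subtype.ext ?_⟩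
  have hz : i₁ (p₁ z.1) + i₂ (p₂ z.1) = z.1 := congr($hd z.1)
  change a ^ (m₁ + m₂) • (a ^ n • (i₁ w₁.1 + i₂ w₂.1) - z.1) = 0
  rw [show a ^ n • (i₁ w₁.1 + i₂ w₂.1) - z.1 =
      i₁ (a ^ n • w₁.1 - p₁ z.1) + i₂ (a ^ n • w₂.1 - p₂ z.1) by
    conv_lhs => rw [← hz]
    rw [map_sub, map_sub, map_smul, map_smul, smul_add]; abel,
    smul_add, ← map_smul, ← map_smul]
  have c₁ : a ^ (m₁ + m₂) • (a ^ n • (w₁ : P₁) - p₁ z.1) = 0 := by
    rw [pow_add, mul_comm, mul_smul, e₁', smul_zero]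
  have c₂ : a ^ (m₁ + m₂) • (a ^ n • (w₂ : P₂) - p₂ z.1) = 0 := by
    rw [pow_add, mul_smul, e₂', smul_zero]
  rw [c₁, c₂, map_zero, map_zero, add_zero]

lemma AC.cone {s : Finset A} {J J' : DRing.Cx A} (hJ : AC s J) (hJ' : AC s J') (f : J ⟶ J') :
    AC s (CochainComplex.mappingCone f) := fun i t ht a ha =>
  divModTors_of_decomp ((CochainComplex.mappingCone.fst f).1.v i (i + 1) rfl)
    ((CochainComplex.mappingCone.inl f).v (i + 1) i (by lia))
    ((CochainComplex.mappingCone.snd f).v i i (add_zero i))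
    ((CochainComplex.mappingCone.inr f).f i)
    (CochainComplex.mappingCone.id_X f i (i + 1) rfl)
    (hJ (i + 1) t ht a ha) (hJ' i t ht a ha)

theorem quasiIso_gm_ac {s : Finset A} {J J' : DRing.Cx A} (hJ : AC s J) (hJ' : AC s J')
    (f : J ⟶ J') [QuasiIso f] : QuasiIso (gm (Ideal.span (s : Set A)) f) := by
  have hC : (CochainComplex.mappingCone f).Acyclic :=
    (DerPlus.quasiIso_iff_acyclic_mappingCone f).1 inferInstance
  have := quasiIso_gι_ac (hJ.cone hJ' f) fun i => by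
    intro m
    haveI := ModuleCat.subsingleton_of_isZero ((HomologicalComplex.exactAt_iff_isZero_homology _ _).1 (hC i))
    exact ⟨0, fun a _ => Subsingleton.elim _ _⟩
  rw [DerPlus.quasiIso_iff_acyclic_mappingCone]
  intro i
  refine HomologicalComplex.ExactAt.of_iso ?_
    (CochainComplex.mappingCone.mapHomologicalComplexIso f (DRing.gammaI _))
  rw [HomologicalComplex.exactAt_iff_isZero_homology]
  exact ((HomologicalComplex.exactAt_iff_isZero_homology _ _).1 (hC i)).of_iso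
    (asIso (HomologicalComplex.homologyMap (gι _ (CochainComplex.mappingCone f)) i))

variable [IsNoetherianRing A]

theorem isIso_gα_ac {s : Finset A} [DRing.HasRgammaI (Ideal.span (s : Set A))] {J : DRing.Cx A}
    (hJ : AC s J) : IsIso (gα (Ideal.span (s : Set A)) J) := by
  obtain ⟨J', u, h1, h2, h3⟩ := exists_kinj J
  haveI := isIso_gα_kinj (Ideal.span (s : Set A)) J'
  haveI := isIso_qhm u
  haveI := quasiIso_gm_ac hJ (ac_of_ti s h3) u
  haveI := isIso_qhm (gm (Ideal.span (s : Set A)) u)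
  have : IsIso (gα _ J ≫ (DRing.RgammaI (Ideal.span (s : Set A))).map (qhm u)) := by
    rw [← gα_natural]; infer_instance
  exact IsIso.of_isIso_comp_right (gα _ J) ((DRing.RgammaI (Ideal.span (s : Set A))).map (qhm u))

end Groth.Agent.RGammaI
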