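import Groth.Agent.RGammaI.Derived
import Groth.Agent.DRingKP.DComplFun
import Groth.Agent.DRingKP.DComplIso
import Mathlib.Algebra.Homology.DerivedCategory.HomologySequence

/-!
Greenlees–May duality over a Noetherian ring, through cones of multiplication.
-/

set_option autoImplicit false
set_option linter.style.haveILetI false
set_option backward.isDefEq.respectTransparency false
set_option backward.isDefEq.respectTransparency.types false
universe u

namespace Groth.Agent.RGammaI

open CategoryTheory Limits Pretriangulated DerivedCategory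
open Groth.Agent.DRingKP (CAlong TBij)

attribute [local instance] HasDerivedCategory.standard

variable {A : Type u} [CommRing A]

/-- cohomology -/
noncomputable abbrev hF (A : Type u) [CommRing A] (n : ℤ) : Dual.D A ⥤ ModuleCat.{u} A :=
  DerivedCategory.homologyFunctor (ModuleCat.{u} A) n

lemma hF_map_smul (f : A) (M : Dual.D A) (i : ℤ) : (hF A i).map (f • 𝟙 M) = f • 𝟙 ((hF A i).obj M) := by
  obtain ⟨K, ⟨e⟩⟩ : ∃ K : CochainComplex (ModuleCat.{u} A) ℤ, Nonempty (DerivedCategory.Q.obj K ≅ M) :=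
    ⟨_, ⟨DerivedCategory.Q.objObjPreimageIso M⟩⟩
  have h1 : f • 𝟙 M = e.inv ≫ DerivedCategory.Q.map (f • 𝟙 K) ≫ e.hom := by
    rw [Functor.map_smul, CategoryTheory.Functor.map_id, Linear.smul_comp, Linear.comp_smul, Category.id_comp,
      e.inv_hom_id]
  have h2 : (hF A i).map (DerivedCategory.Q.map (f • 𝟙 K)) = f • 𝟙 ((hF A i).obj (DerivedCategory.Q.obj K)) := by
    have hn := (DerivedCategory.homologyFunctorFactors (ModuleCat.{u} A) i).hom.naturality (f • 𝟙 K)
    have h3 : (HomologicalComplex.homologyFunctor (ModuleCat.{u} A) (ComplexShape.up ℤ) i).map (f • 𝟙 K) = f • 𝟙 ((HomologicalComplex.homologyFunctor (ModuleCat.{u} A) (ComplexShape.up ℤ) i).obj K) := by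
      show HomologicalComplex.homologyMap (f • 𝟙 K) i = _
      rw [HomologicalComplex.homologyMap, show (HomologicalComplex.shortComplexFunctor (ModuleCat.{u} A)
        (ComplexShape.up ℤ) i).map (f • 𝟙 K) = f • 𝟙 (K.sc i) by ext <;> rfl,
        ShortComplex.homologyMap_smul, ShortComplex.homologyMap_id]
      rfl
    rw [h3, Linear.comp_smul, Category.comp_id] at hn
    rw [← Iso.cancel_iso_hom_right _ _ ((DerivedCategory.homologyFunctorFactors (ModuleCat.{u} A) i).app K),
      Linear.smul_comp, Category.id_comp]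
    exact hn
  rw [h1, Functor.map_comp, Functor.map_comp, h2, Linear.smul_comp, Linear.comp_smul, Category.id_comp,
    ← Functor.map_comp, e.inv_hom_id, CategoryTheory.Functor.map_id]

/-- `C` is a cone of multiplication by `f` on `X` -/
def IsMulCone (f : A) (X C : Dual.D A) : Prop :=
  ∃ (g : X ⟶ C) (h : C ⟶ X⟦(1 : ℤ)⟧), Triangle.mk (f • 𝟙 X) g h ∈ distTriang (Dual.D A)

lemma exists_mulCone (f : A) (X : Dual.D A) : ∃ C, IsMulCone f X C := by
  obtain ⟨C, g, h, hT⟩ := distinguished_cocone_triangle (f • 𝟙 X)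
  exact ⟨C, g, h, hT⟩

/-- uniformly `f`-nilpotent cohomology -/
def UKill (f : A) (X : Dual.D A) : Prop := ∀ n : ℤ, ∃ m : ℕ, ∀ x : Dual.HD A X n, f ^ m • x = 0

/-- `f`-power torsion cohomology -/
def TKill (f : A) (X : Dual.D A) : Prop := ∀ (n : ℤ) (x : Dual.HD A X n), ∃ m : ℕ, f ^ m • x = 0

lemma mulCone_middle {f : A} {X C : Dual.D A} {g : X ⟶ C} {h : C ⟶ X⟦(1 : ℤ)⟧}
    (hT : Triangle.mk (f • 𝟙 X) g h ∈ distTriang (Dual.D A)) (n : ℤ) (c : Dual.HD A C n) :
    ∃ x : Dual.HD A X (n + 1), f • x = 0 ∧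
      ∀ a : A, a • x = 0 → ∃ y : Dual.HD A X n, (hF A n).map g y = a • c := by
  refine ⟨HomologySequence.δ (Triangle.mk (f • 𝟙 X) g h) n (n + 1) rfl c, ?_, fun a ha => ?_⟩
  · have e := congr($(HomologySequence.δ_comp _ hT n (n + 1) rfl) c)
    change (hF A (n + 1)).map (f • 𝟙 X) _ = 0 at e
    rw [hF_map_smul] at e
    exact e
  · exact (ShortComplex.moduleCat_exact_iff _).1 (HomologySequence.exact₃ _ hT n (n + 1) rfl) (a • c)
      ((map_smul _ a c).trans ha)

lemma mulCone_kill {f : A} {X C : Dual.D A} (hC : IsMulCone f X C) : UKill f C := by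
  obtain ⟨g, h, hT⟩ := hC
  refine fun n => ⟨2, fun c => ?_⟩
  obtain ⟨x, hx, hy⟩ := mulCone_middle hT n c
  obtain ⟨y, hy⟩ := hy f hx
  have e := congr($(Functor.map_comp (hF A n) (f • 𝟙 X) g) y)
  rw [show (f • 𝟙 X) ≫ g = 0 from comp_distTriang_mor_zero₁₂ _ hT, Functor.map_zero, hF_map_smul] at e
  change 0 = (hF A n).map g (f • y) at e
  rw [map_smul, hy, smul_smul, ← pow_two] at e
  exact e.symm

lemma mulCone_ukill {f b : A} {X C : Dual.D A} (hC : IsMulCone f X C) (hb : UKill b X) : UKill b C := by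
  obtain ⟨g, h, hT⟩ := hC
  intro n
  obtain ⟨m, hm⟩ := hb n
  obtain ⟨m', hm'⟩ := hb (n + 1)
  refine ⟨m + m', fun c => ?_⟩
  obtain ⟨x, -, hy⟩ := mulCone_middle hT n c
  obtain ⟨y, hy⟩ := hy (b ^ m') (hm' x)
  rw [pow_add, mul_smul, ← hy, ← map_smul, hm y, map_zero]

lemma mulCone_tkill {f b : A} {X C : Dual.D A} (hC : IsMulCone f X C) (hb : TKill b X) : TKill b C := by
  obtain ⟨g, h, hT⟩ := hC
  intro n c
  obtain ⟨x, -, hy⟩ := mulCone_middle hT n c
  obtain ⟨m', hm'⟩ := hb (n + 1) x
  obtain ⟨y, hy⟩ := hy (b ^ m') hm'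
  obtain ⟨m, hm⟩ := hb n y
  exact ⟨m + m', by rw [pow_add, mul_smul, ← hy, ← map_smul, hm, map_zero]⟩

lemma tele_zero {M : Type u} [AddCommGroup M] [Module A M] {f : A} :
    ∀ m : ℕ, (∀ x : M, f ^ m • x = 0) → TBij M f := by
  intro m hm
  have key : ∀ (x : ℕ → M) (n : ℕ), (∀ k, x k = f • x (k + 1)) → ∀ j, x n = f ^ j • x (n + j) := by
    intro x n hx j
    induction j with
    | zero => simp
    | succ j ih => rw [ih, hx (n + j), smul_smul, ← pow_succ]; rfl
  refine ⟨fun x y hxy => funext fun n => ?_, fun d => ⟨fun n => ∑ j ∈ Finset.range m, f ^ j • d (n + j), ?_⟩⟩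
  · have h0 : ∀ k, (x - y) k = f • (x - y) (k + 1) := fun k => by
      have := congrFun hxy k
      simp only [DRingKP.tele_apply] at this
      simp only [Pi.sub_apply, smul_sub]
      exact sub_eq_sub_iff_sub_eq_sub.1 this
    have := key (x - y) n h0 m
    rw [hm] at this
    exact sub_eq_zero.1 this
  · funext n
    simp only [DRingKP.tele_apply, Finset.smul_sum, smul_smul, ← pow_succ']
    rw [show (∑ j ∈ Finset.range m, f ^ (j + 1) • d (n + 1 + j)) =
      ∑ j ∈ Finset.range m, f ^ (j + 1) • d (n + (j + 1)) from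
        Finset.sum_congr rfl fun j _ => by rw [show n + 1 + j = n + (j + 1) by lia], ← Finset.sum_sub_distrib,
      Finset.sum_range_sub' fun j => f ^ j • d (n + j), hm, pow_zero, one_smul, sub_zero]
    simp

lemma cAlong_of_ukill {f : A} {X : Dual.D A} (h : UKill f X) : CAlong f X := fun n => by
  obtain ⟨m, hm⟩ := h n
  exact tele_zero m hm

/-- no maps to complete objects from objects with `f`-divisible maps -/
theorem subsingleton_hom_of_div {f : A} {K L : Dual.D A} (hdiv : ∀ g : K ⟶ L, ∃ g', g = f • g')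
    (hL : CAlong f L) : Subsingleton (K ⟶ L) := by
  refine subsingleton_of_forall_eq 0 fun g => ?_
  choose dv hdv using hdiv
  let C := DerivedCategory.Q.objPreimage L
  let eC : DerivedCategory.Q.obj C ≅ L := DerivedCategory.Q.objObjPreimageIso L
  let x : ℕ → (K ⟶ L) := fun n => n.rec g fun _ y => dv y
  have hx : ∀ n, x n = f • x (n + 1) := fun n => hdv (x n)
  obtain ⟨G, hG⟩ := DRingKP.piD_lift (C := C) (fun n => x n ≫ eC.inv)
  let T := (NatTrans.mapHomologicalComplex (DRingKP.teleNat f) (ComplexShape.up ℤ)).app C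
  have hT : ∀ n, T ≫ DRingKP.prC n C = DRingKP.prC n C - f • DRingKP.prC (n + 1) C := fun n => by
    ext i x
    rfl
  haveI : QuasiIso T := DRingKP.quasiIso_tele C fun n => by
    let gI := ((DerivedCategory.homologyFunctorFactors (ModuleCat.{u} A) n).app C).symm ≪≫
      (DerivedCategory.homologyFunctor (ModuleCat.{u} A) n).mapIso eC
    exact (hL n).of_equiv gI.toLinearEquiv.symm
  have hGT : G ≫ DerivedCategory.Q.map T = 0 := DRingKP.piD_ext _ fun n => by
    rw [Category.assoc, ← Functor.map_comp, hT, Functor.map_sub, Functor.map_smul, Preadditive.comp_sub,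
      Linear.comp_smul, hG, hG, ← Linear.smul_comp, ← hx, sub_self]
  have h0 : G = 0 := (cancel_mono (DerivedCategory.Q.map T)).1 (hGT.trans zero_comp.symm)
  have := hG 0
  rw [h0, zero_comp] at this
  exact (cancel_mono eC.inv).1 (this.symm.trans zero_comp.symm)

/-- no maps into complete objects -/
def NoHom (I : Ideal A) (X : Dual.D A) : Prop :=
  ∀ E : Dual.D A, DRing.IsDerivedComplete I E → Subsingleton (X ⟶ E)

lemma complete_shift {I : Ideal A} {E : Dual.D A} (hE : DRing.IsDerivedComplete I E) (k : ℤ) :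
    DRing.IsDerivedComplete I (E⟦k⟧) :=
  (DRingKP.isDerivedComplete_iff I _).2 fun f hf =>
    DRingKP.cAlong_shift (fun n => (DRingKP.isDerivedComplete_iff I E).1 hE f hf n) k

lemma NoHom.of_iso {I : Ideal A} {X Y : Dual.D A} (e : X ≅ Y) (h : NoHom I X) : NoHom I Y :=
  fun E hE => @Equiv.subsingleton _ _ (Iso.homFromEquiv e).symm (h E hE)

lemma noHom_shift {I : Ideal A} {X : Dual.D A} (h : NoHom I X) (k : ℤ) : NoHom I (X⟦k⟧) := fun E hE =>
  @Equiv.subsingleton _ _ ((shiftEquiv' (Dual.D A) k (-k) (by lia)).toAdjunction.homEquiv X E)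
    (h _ (complete_shift hE (-k)))

lemma noHom_of_mulCone {I : Ideal A} {f : A} (hf : f ∈ I) {X C : Dual.D A} (hC : IsMulCone f X C)
    (h : NoHom I C) : NoHom I X := by
  obtain ⟨g, δ, hT⟩ := hC
  intro E hE
  refine subsingleton_hom_of_div (f := f) (fun v => ?_)
    (fun n => (DRingKP.isDerivedComplete_iff I E).1 hE f hf n)
  obtain ⟨w, hw⟩ := Triangle.yoneda_exact₂ _ (inv_rot_of_distTriang _ hT) v
    (@Subsingleton.elim _ (noHom_shift h (-1) E hE) _ _)
  refine ⟨w, hw.trans ?_⟩
  change (f • 𝟙 X) ≫ w = f • w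
  rw [Linear.smul_comp, Category.id_comp]

lemma noHom_mulCone {I : Ideal A} {f : A} {X C : Dual.D A} (hC : IsMulCone f X C) (h : NoHom I X) :
    NoHom I C := by
  obtain ⟨g, δ, hT⟩ := hC
  intro E hE
  refine subsingleton_of_forall_eq 0 fun v => ?_
  obtain ⟨w, hw⟩ := Triangle.yoneda_exact₃ _ hT v (@Subsingleton.elim _ (h E hE) _ _)
  rw [hw, show w = 0 from @Subsingleton.elim _ (noHom_shift h 1 E hE) _ _]
  exact comp_zero

section Noetherian

variable [IsNoetherianRing A] (I : Ideal A) [DRing.HasRgammaI I]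

omit [IsNoetherianRing A] in
lemma isZero_of_HD {X : Dual.D A} (h : ∀ n, IsZero ((hF A n).obj X)) : IsZero X := by
  have : IsIso (0 : X ⟶ X) := (DerivedCategory.isIso_iff (ModuleCat.{u} A) _).2 fun i =>
    ⟨0, (h i).eq_of_src _ _, (h i).eq_of_tgt _ _⟩
  exact (IsZero.iff_id_eq_zero _).mpr ((@IsIso.hom_inv_id _ _ _ _ _ this).symm.trans zero_comp)

omit [IsNoetherianRing A] in
lemma isPowerTorsion_of_tkill {X : Dual.D A} (s : Finset A) (h : ∀ f ∈ s, TKill f X) (n : ℤ) :
    LocCoh.IsPowerTorsion (Ideal.span (s : Set A)) (Dual.HD A X n) := by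
  classical
  intro x
  change x ∈ DRing.torsionSub (Ideal.span (s : Set A)) (Dual.HD A X n)
  induction s using Finset.induction_on with
  | empty => exact ⟨1, fun a ha => by simp at ha; simp [ha]⟩
  | @insert a t _ ih =>
    rw [Finset.coe_insert, Ideal.span_insert, sup_comm]
    exact LocH.torsionSub_sup (ih fun f hf => h f (Finset.mem_insert_of_mem hf))
      (LocH.mem_torsionSub_span_singleton_iff.2 (h a (Finset.mem_insert_self a t) n x))

/-- `RΓ_I` kills a cone iff it inverts the map -/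
lemma isZero_RΓ_cone_iff {X Y C : Dual.D A} {u : X ⟶ Y} {g : Y ⟶ C} {δ : C ⟶ X⟦(1 : ℤ)⟧}
    (hT : Triangle.mk u g δ ∈ distTriang (Dual.D A)) :
    IsZero ((DRing.RgammaI I).obj C) ↔ IsIso ((DRing.RgammaI I).map u) := by
  obtain ⟨J, -, hTI, ⟨e⟩⟩ := exists_rep X
  obtain ⟨J', hJ', hTI', ⟨e'⟩⟩ := exists_rep Y
  let q := DerivedCategory.quotientCompQhIso (ModuleCat.{u} A)
  let eX : DerivedCategory.Q.obj J ≅ X := (q.app J).symm ≪≫ e
  let eY : DerivedCategory.Q.obj J' ≅ Y := (q.app J').symm ≪≫ e'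
  obtain ⟨f, hf⟩ := KInj.Q_map_surjective (eX.hom ≫ u ≫ eY.inv)
  let T := isoTriangleOfIso₁₂ _ _ (DerivedCategory.mappingCone_triangle_distinguished f) hT eX eY (by
    change DerivedCategory.Q.map f ≫ eY.hom = eX.hom ≫ u
    rw [hf]
    simp)
  let eC : DerivedCategory.Q.obj (CochainComplex.mappingCone f) ≅ C := Triangle.π₃.mapIso T
  have hTIc : TI (CochainComplex.mappingCone f) := fun i => by
    haveI := hTI (i + 1)
    haveI := hTI' i
    exact Injective.of_iso (HomologicalComplex.homotopyCofiber.XIsoBiprod f i (i + 1) rfl).symm inferInstance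
  haveI := isIso_gα I hTI
  haveI := isIso_gα I hTI'
  haveI := isIso_gα I hTIc
  let d : (DRing.RgammaI I).obj C ≅ DerivedCategory.Q.obj (CochainComplex.mappingCone (gm I f)) :=
    (DRing.RgammaI I).mapIso (eC.symm ≪≫ (q.app _).symm) ≪≫ (asIso (gα I (CochainComplex.mappingCone f))).symm ≪≫
      q.app _ ≪≫ DerivedCategory.Q.mapIso (CochainComplex.mappingCone.mapHomologicalComplexIso f (DRing.gammaI I))
  have hu : eX.hom ≫ u = DerivedCategory.Q.map f ≫ eY.hom := by rw [hf]; simp
  have hq : q.hom.app J ≫ DerivedCategory.Q.map f = qhm f ≫ q.hom.app J' := (q.hom.naturality f).symm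
  have h1 : qhm f ≫ e'.hom = e.hom ≫ u := by
    have := congrArg (q.hom.app J ≫ ·) hu
    simp only [eX, eY, Iso.trans_hom, Iso.symm_hom, Iso.app_inv, Category.assoc] at this
    rw [reassoc_of% hq, Iso.hom_inv_id_app_assoc, Iso.hom_inv_id_app_assoc] at this
    exact this.symm
  have h2 : IsIso ((DRing.RgammaI I).map u) ↔ IsIso (qhm (gm I f)) := by
    have n : qhm (gm I f) ≫ gα I J' ≫ (DRing.RgammaI I).map e'.hom =
        (gα I J ≫ (DRing.RgammaI I).map e.hom) ≫ (DRing.RgammaI I).map u := by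
      rw [reassoc_of% gα_natural I f, Category.assoc, ← Functor.map_comp, ← Functor.map_comp, h1]
    constructor
    · intro h
      have : IsIso (qhm (gm I f) ≫ gα I J' ≫ (DRing.RgammaI I).map e'.hom) := by rw [n]; infer_instance
      exact IsIso.of_isIso_comp_right (qhm (gm I f)) (gα I J' ≫ (DRing.RgammaI I).map e'.hom)
    · intro h
      have : IsIso ((gα I J ≫ (DRing.RgammaI I).map e.hom) ≫ (DRing.RgammaI I).map u) := by
        rw [← n]; infer_instance
      exact IsIso.of_isIso_comp_left (gα I J ≫ (DRing.RgammaI I).map e.hom) _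
  rw [h2, d.isZero_iff,
    show IsIso (qhm (gm I f)) ↔ IsIso (DerivedCategory.Q.map (gm I f)) from NatIso.isIso_map_iff q (gm I f)]
  exact Triangle.isZero₃_iff_isIso₁ _ (DerivedCategory.mappingCone_triangle_distinguished (gm I f))

/-- objects killed by `RΓ_I` have no maps into complete objects -/
theorem noHom_of_isZero_RΓ {X : Dual.D A} (h : IsZero ((DRing.RgammaI I).obj X)) : NoHom I X := by
  classical
  obtain ⟨s, hs⟩ := IsNoetherian.noetherian I
  subst hs
  suffices key : ∀ t ⊆ s, ∀ Y : Dual.D A, IsZero ((DRing.RgammaI _).obj Y) → (∀ f ∈ s, f ∉ t → UKill f Y) →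
      NoHom (Ideal.span (s : Set A)) Y from key s subset_rfl X h (fun f hf hf' => (hf' hf).elim)
  intro t
  induction t using Finset.induction_on with
  | empty =>
    intro _ Y hY hk E _
    have hY' : ∀ n, LocCoh.IsPowerTorsion (Ideal.span (s : Set A)) (Dual.HD A Y n) :=
      isPowerTorsion_of_tkill s fun f hf n x => by
        obtain ⟨m, hm⟩ := hk f hf (by simp) n
        exact ⟨m, hm x⟩
    haveI := isIso_ε _ hY'
    exact ⟨fun a b => (hY.of_iso (asIso ((DRing.RgammaIε _).app Y)).symm).eq_of_src a b⟩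
  | @insert a t _ ih =>
    intro ht Y hY hk
    obtain ⟨ha, ht'⟩ := Finset.insert_subset_iff.1 ht
    obtain ⟨C, hC⟩ := exists_mulCone a Y
    refine noHom_of_mulCone (Ideal.subset_span ha) hC (ih ht' C (by
      obtain ⟨g, δ, hT⟩ := hC
      exact (isZero_RΓ_cone_iff _ hT).2 ⟨0, hY.eq_of_src _ _, hY.eq_of_tgt _ _⟩) fun f hf hft => ?_)
    by_cases hfa : f = a
    · exact hfa ▸ mulCone_kill hC
    · exact mulCone_ukill hC (hk f hf (by simp [hfa, hft]))

omit [DRing.HasRgammaI I] [IsNoetherianRing A] in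
/-- torsion objects without maps into complete objects vanish -/
theorem isZero_of_torsion_noHom (hI : I.FG) {X : Dual.D A}
    (ht : ∀ n, LocCoh.IsPowerTorsion I (Dual.HD A X n)) (h : NoHom I X) : IsZero X := by
  classical
  obtain ⟨s, rfl⟩ := hI
  suffices key : ∀ t ⊆ s, ∀ Y : Dual.D A, (∀ f ∈ s, TKill f Y) → (∀ f ∈ s, f ∉ t → UKill f Y) →
      NoHom (Ideal.span (s : Set A)) Y → IsZero Y from
    key s subset_rfl X (fun f hf n x => by
      obtain ⟨m, hm⟩ := ht n x
      exact ⟨m, hm _ (Ideal.pow_mem_pow (Ideal.subset_span hf) m)⟩) (fun f hf hf' => (hf' hf).elim) h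
  intro t
  induction t using Finset.induction_on with
  | empty =>
    intro _ Y _ hk hN
    have hc : DRing.IsDerivedComplete (Ideal.span (s : Set A)) Y :=
      (DRingKP.isDerivedComplete_span_iff s.toList _ (by simp) Y).2 fun f hf =>
        cAlong_of_ukill (hk f (by simpa using hf) (by simp))
    exact (IsZero.iff_id_eq_zero _).mpr (@Subsingleton.elim _ (hN Y hc) _ _)
  | @insert a t _ ih =>
    intro ht' Y htk hk hN
    obtain ⟨ha, ht''⟩ := Finset.insert_subset_iff.1 ht'
    obtain ⟨C, hC⟩ := exists_mulCone a Y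
    have hz : IsZero C := ih ht'' C (fun f hf => mulCone_tkill hC (htk f hf)) (fun f hf hft => by
      by_cases hfa : f = a
      · exact hfa ▸ mulCone_kill hC
      · exact mulCone_ukill hC (hk f hf (by simp [hfa, hft]))) (noHom_mulCone hC hN)
    obtain ⟨g, δ, hT⟩ := hC
    haveI : IsIso (a • 𝟙 Y) := (Triangle.isZero₃_iff_isIso₁ _ hT).1 hz
    refine isZero_of_HD fun n => ?_
    have hb : Function.Injective ((hF A n).map (a • 𝟙 Y)) :=
      ((ConcreteCategory.isIso_iff_bijective _).1 inferInstance).1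
    rw [hF_map_smul] at hb
    haveI : Subsingleton ((hF A n).obj Y) := subsingleton_of_forall_eq 0 fun x => by
      obtain ⟨m, hm⟩ := htk a ha n x
      induction m with
      | zero => simpa using hm
      | succ m ihm =>
        refine ihm (hb ?_)
        change a • (a ^ m • x) = a • (0 : Dual.HD A Y n)
        rw [smul_smul, ← pow_succ', hm, smul_zero]
    exact ModuleCat.isZero_of_subsingleton _

omit [DRing.HasRgammaI I] [IsNoetherianRing A] in
/-- precomposition with a map with cone without maps into complete objects -/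
lemma bijective_of_noHom {X Y C : Dual.D A} {u : X ⟶ Y} {g : Y ⟶ C} {δ : C ⟶ X⟦(1 : ℤ)⟧}
    (hT : Triangle.mk u g δ ∈ distTriang (Dual.D A)) (hC : NoHom I C) {E : Dual.D A}
    (hE : DRing.IsDerivedComplete I E) : Function.Bijective (fun φ : Y ⟶ E => u ≫ φ) := by
  refine ⟨fun a b hab => ?_, fun v => ?_⟩
  · obtain ⟨w, hw⟩ := Triangle.yoneda_exact₂ _ hT (a - b)
      ((Preadditive.comp_sub _ _ _).trans (sub_eq_zero.2 hab))
    rw [show w = 0 from @Subsingleton.elim _ (hC E hE) _ _] at hw
    exact sub_eq_zero.1 (hw.trans comp_zero)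
  · obtain ⟨w, hw⟩ := Triangle.yoneda_exact₂ _ (inv_rot_of_distTriang _ hT) v
      (@Subsingleton.elim _ (noHom_shift hC (-1) E hE) _ _)
    exact ⟨w, hw.symm⟩

/-- `RΓ_I` kills what has no maps into complete objects -/
theorem isZero_RΓ_of_noHom {X : Dual.D A} (h : NoHom I X) : IsZero ((DRing.RgammaI I).obj X) := by
  refine isZero_of_torsion_noHom I (IsNoetherian.noetherian I) (isPowerTorsion_HD I X) ?_
  obtain ⟨C, g, δ, hT⟩ := distinguished_cocone_triangle ((DRing.RgammaIε I).app X)
  have hC : NoHom I C := noHom_of_isZero_RΓ I ((isZero_RΓ_cone_iff I hT).2 (isIso_map_ε I X))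
  exact fun E hE => ⟨fun a b => by
    obtain ⟨a', rfl⟩ := (bijective_of_noHom I hT hC hE).2 a
    obtain ⟨b', rfl⟩ := (bijective_of_noHom I hT hC hE).2 b
    exact congrArg _ (@Subsingleton.elim _ (h E hE) a' b')⟩

/-- Greenlees–May duality -/
theorem greenlees_may [DRing.HasDerivedCompletion I] (K : Dual.D A) :
    Nonempty ((DRing.RgammaI I).obj ((DRing.derivedCompletion I).obj K).obj ≅ (DRing.RgammaI I).obj K) ∧
      Nonempty ((DRing.derivedCompletion I).obj ((DRing.RgammaI I).obj K) ≅ (DRing.derivedCompletion I).obj K) := by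
  constructor
  · obtain ⟨D, g, δ, hT⟩ := distinguished_cocone_triangle (DRing.toDerivedCompletion I K)
    have hD : NoHom I D := fun E hE => subsingleton_of_forall_eq 0 fun v => by
      have h0 : g ≫ v = 0 := (DRingKP.completion_univ I K E hE).1 (by
        change DRing.toDerivedCompletion I K ≫ g ≫ v = DRing.toDerivedCompletion I K ≫ 0
        rw [comp_zero, ← Category.assoc,
          show DRing.toDerivedCompletion I K ≫ g = 0 from comp_distTriang_mor_zero₁₂ _ hT, zero_comp])
      obtain ⟨w, hw⟩ := Triangle.yoneda_exact₃ _ hT v h0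
      obtain ⟨w', hw'⟩ := (DRingKP.bijective_precomp_shift (DRing.toDerivedCompletion I K)
        (DRingKP.completion_univ I K _ (complete_shift hE (-1)))).2 w
      rw [hw, ← hw', ← Category.assoc]
      exact (congrArg (· ≫ w') (comp_distTriang_mor_zero₃₁ _ hT)).trans zero_comp
    haveI := (isZero_RΓ_cone_iff I hT).1 (isZero_RΓ_of_noHom I hD)
    exact ⟨(asIso ((DRing.RgammaI I).map (DRing.toDerivedCompletion I K))).symm⟩
  · obtain ⟨C, g, δ, hT⟩ := distinguished_cocone_triangle ((DRing.RgammaIε I).app K)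
    have hC : NoHom I C := noHom_of_isZero_RΓ I ((isZero_RΓ_cone_iff I hT).2 (isIso_map_ε I K))
    obtain ⟨v, -⟩ := DRingKP.exists_iso_completion I ((DRing.RgammaIε I).app K ≫ DRing.toDerivedCompletion I K)
      ((DRing.derivedCompletion I).obj K).property fun E hE => by
        simp only [Category.assoc]
        exact (bijective_of_noHom I hT hC hE).comp (DRingKP.completion_univ I K E hE)
    exact ⟨(ObjectProperty.isoMk _ v).symm⟩

end Noetherian

end Groth.Agent.RGammaI
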