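import Groth.Agent.RGammaI.Derived

/-!
`RΓ_I` vanishes where an element of `I` acts invertibly.
-/

set_option autoImplicit false
set_option linter.style.haveILetI false
set_option backward.isDefEq.respectTransparency false
set_option backward.isDefEq.respectTransparency.types false
universe u

namespace Groth.Agent.RGammaI

open CategoryTheory Limits HomologicalComplex

attribute [local instance] HasDerivedCategory.standard

variable {A : Type u} [CommRing A] (I : Ideal A)

/-- multiplication by an element on a complex -/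
noncomputable def mulCx (f : A) (K : DRing.Cx A) : K ⟶ K where
  f i := ModuleCat.ofHom (f • LinearMap.id)
  comm' i j _ := by
    ext x
    change K.d i j (f • x) = f • K.d i j x
    exact map_smul _ _ _

lemma exists_torsion_boundary {J : DRing.Cx A} (f : A) (g : J ⟶ J)
    (H : Homotopy (mulCx f J ≫ g) (𝟙 J)) : ∀ (n : ℕ) (i : ℤ) (z : J.X i), z ∈ DRing.torsionSub I (J.X i) →
      J.d i (i + 1) z = 0 → f ^ n • z = 0 →
      ∃ w ∈ DRing.torsionSub I (J.X (i - 1)), J.d (i - 1) i w = z := by
  intro n
  induction n with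
  | zero => intro i z _ _ h; exact ⟨0, zero_mem _, by rw [map_zero]; simpa using h.symm⟩
  | succ n ih =>
    intro i z hz hd h
    obtain ⟨y, hy, hyz⟩ := ih i (f • z) (Submodule.smul_mem _ _ hz) (by rw [map_smul, hd, smul_zero])
      (by rw [smul_smul, ← pow_succ]; exact h)
    have hc : g.f i (f • z) = H.hom (i + 1) i (J.d i (i + 1) z) + J.d (i - 1) i (H.hom i (i - 1) z) + z := by
      have hc := H.comm i
      rw [dNext_eq H.hom (show (ComplexShape.up ℤ).Rel i (i + 1) by simp),
        prevD_eq H.hom (show (ComplexShape.up ℤ).Rel (i - 1) i by simp)] at hc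
      exact congr($hc z)
    refine ⟨g.f (i - 1) y - H.hom i (i - 1) z, sub_mem (DRing.map_mem_torsionSub I _ hy)
      (DRing.map_mem_torsionSub I _ hz), ?_⟩
    rw [map_sub, show J.d (i - 1) i (g.f (i - 1) y) = g.f i (J.d (i - 1) i y) from congr($(g.comm (i - 1) i) y),
      hyz, hc, hd, map_zero, zero_add, add_sub_cancel_left]

theorem isZero_RgammaI [DRing.HasRgammaI I] (K : DRing.Cx A) (f : A) (hf : f ∈ I)
    (hK : ∀ n : ℤ, Function.Bijective (fun x : K.X n => f • x)) :
    IsZero ((DRing.RgammaI I).obj (DerivedCategory.Q.obj K)) := by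
  obtain ⟨J, u, h1, h2, -⟩ := exists_kinj K
  haveI := isIso_gα_kinj I J
  haveI : ∀ i, IsIso ((mulCx f K).f i) := fun i => (ConcreteCategory.isIso_iff_bijective _).2 (hK i)
  haveI : IsIso (mulCx f K) := HomologicalComplex.Hom.isIso_of_components _
  obtain ⟨g, hg⟩ := KInj.Q_map_surjective (K := J) (I := J)
    (inv (DerivedCategory.Q.map u) ≫ DerivedCategory.Q.map (inv (mulCx f K) ≫ u))
  have hcomm : u ≫ mulCx f J = mulCx f K ≫ u := by
    ext i x
    exact (map_smul (u.f i).hom f x).symm
  obtain ⟨H⟩ := KInj.nonempty_homotopy_of_Q_map_eq (f := mulCx f J ≫ g) (g := 𝟙 J) (by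
    rw [← cancel_epi (DerivedCategory.Q.map u), ← Functor.map_comp, ← Category.assoc, hcomm,
      Category.assoc, Functor.map_comp, Functor.map_comp, hg, IsIso.hom_inv_id_assoc,
      ← Functor.map_comp, IsIso.hom_inv_id_assoc, CategoryTheory.Functor.map_id, Category.comp_id])
  have hz : ∀ i, IsZero ((gc I J).homology i) := fun i => by
    rw [FlatCx.isZero_homology_iff (K := gc I J) (i := i - 1) (k := i + 1) (by simp) (by simp)]
    intro z hz
    obtain ⟨n, hn⟩ := z.2
    obtain ⟨w, hw, hwz⟩ := exists_torsion_boundary I f g (Homotopy.equivSubZero.symm H) n i z.1 z.2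
      (congrArg Subtype.val hz) (hn _ (Ideal.pow_mem_pow hf n))
    exact ⟨⟨w, hw⟩, Subtype.ext hwz⟩
  have hz' : ∀ i, IsZero ((DerivedCategory.homologyFunctor (ModuleCat.{u} A) i).obj
      ((DRing.RgammaI I).obj (DerivedCategory.Q.obj K))) := fun i =>
    (hz i).of_iso ((DerivedCategory.homologyFunctor (ModuleCat.{u} A) i).mapIso
      ((DRing.RgammaI I).mapIso (asIso (DerivedCategory.Q.map u) ≪≫
          ((DerivedCategory.quotientCompQhIso (ModuleCat.{u} A)).app J).symm) ≪≫
        (asIso (gα I J)).symm ≪≫ (DerivedCategory.quotientCompQhIso (ModuleCat.{u} A)).app (gc I J)) ≪≫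
      (DerivedCategory.homologyFunctorFactors (ModuleCat.{u} A) i).app (gc I J))
  have : IsIso (0 : (DRing.RgammaI I).obj (DerivedCategory.Q.obj K) ⟶ (DRing.RgammaI I).obj (DerivedCategory.Q.obj K)) :=
    (DerivedCategory.isIso_iff (ModuleCat.{u} A) _).2 fun i =>
      ⟨0, (hz' i).eq_of_src _ _, (hz' i).eq_of_tgt _ _⟩
  exact (IsZero.iff_id_eq_zero _).mpr
    ((@IsIso.hom_inv_id _ _ _ _ _ this).symm.trans zero_comp)

end Groth.Agent.RGammaI
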